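import Cfsg.Agent.TwoF.DC.TBD.Ins_mg_m3
import Cfsg.Agent.TwoF.DC.D1.Main_m3
import Cfsg.Agent.TwoF.DC.TE.Tw_m3
import Cfsg.Agent.TwoF.DC.TBD.BMain_m3
import Cfsg.Agent.TwoF.DC.D4.Main
import Cfsg.Agent.Prune
set_option linter.all false

section
prune_inst 0x7fb1fffdffbde7ffffff7e7faed2dffc1b939fffe6dff94bffe063ff0bdf03800be5fb870de010fe0ed7e23c10387853fb7eeeffea6fdc7ffffd5ff41ffbee5ff5f7b58871d49c340f342fff83f0778a7f3fffffffffffffffffffffffffffbeffbfffffffff

-- part: TwoF/DC/TBD/CT_mg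
section
prune_inst 0xe00000000080000000000010000002000000000200400000000004000100004000400000000005120000000800000000001000000000000000000400000000000080100020000008800006000000400000000000000000000000000000000000000000000
set_option linter.all false
open scoped Cfsg.Agent.FastGrp

-- part: TwoF/DC/TBD/CTA
section
/-!
# TwoF, defining characteristic, type D, `boxCT` (1): abelian ideals of roots (helper33)

`In S p q` : the root with the positions `p`, `q` lies in `S`; `NN S` : all inner products are nonnegative;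
`Nd l a` : `Me a` is the radical for the node `l`; `CC S` : `S` contains `ε_1 ± ε_m`.
-/

set_option autoImplicit false
set_option linter.unusedSectionVars false

namespace Cfsg.Agent.TwoF.DC.TBD.CT

open Finset Matrix Sum Cfsg.Agent.TwoF.DC.TC

variable {m : ℕ}

/-- the root with the positions `p`, `q` lies in `S` -/
def In (S : Finset (PD m)) (p q : ℕ) : Prop := ∃ b ∈ S, ps b.1.1 = p ∧ ps b.1.2 = q

theorem in_self {S : Finset (PD m)} {b : PD m} (hb : b ∈ S) : In S (ps b.1.1) (ps b.1.2) := ⟨b, hb, rfl, rfl⟩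

theorem In.mem {S : Finset (PD m)} {b : PD m} (h : In S (ps b.1.1) (ps b.1.2)) : b ∈ S := by
  obtain ⟨c, hc, h1, h2⟩ := h
  rwa [← PD.ext' h1 h2]

theorem In.lt {S : Finset (PD m)} {p q : ℕ} (h : In S p q) : p < q ∧ p + q + 1 < 2 * m := by
  obtain ⟨b, -, rfl, rfl⟩ := h
  exact b.2

theorem exists_ps {q : ℕ} (h : q < 2 * m) : ∃ x : II m, ps x = q :=
  if h' : q < m then ⟨inl ⟨q, h'⟩, rfl⟩ else ⟨inr ⟨2 * m - 1 - q, by omega⟩, by simp only [ps]; omega⟩

theorem in_of_isD {S : Finset (PD m)} {c : PD m} (hc : c ∈ S) {x y : II m} (h : IsD c x y) (hxy : ps x < ps y) :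
    In S (ps x) (ps y) := by
  have := c.2.1
  rcases h with h | h
  · exact ⟨c, hc, by rw [h], by rw [h]⟩
  · rw [h] at this
    simp only at this
    omega

theorem exists_in {p q : ℕ} (h : p < q) (h' : p + q + 1 < 2 * m) : ∃ b : PD m, ps b.1.1 = p ∧ ps b.1.2 = q := by
  obtain ⟨x, rfl⟩ := exists_ps (m := m) (q := p) (by omega)
  obtain ⟨y, rfl⟩ := exists_ps (m := m) (q := q) (by omega)
  exact ⟨⟨(x, y), h, h'⟩, rfl, rfl⟩

theorem rd_rd (a b : PD m) : rd a ⬝ᵥ rd b =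
    xv (wv b.1.1) a.1.1 + xv (wv b.1.2) a.1.1 + (xv (wv b.1.1) a.1.2 + xv (wv b.1.2) a.1.2) := by
  rw [rd_dot, rd, xv_add, xv_add]

/-- all inner products are nonnegative -/
def NN (S : Finset (PD m)) : Prop := ∀ a ∈ S, ∀ b ∈ S, 0 ≤ rd a ⬝ᵥ rd b

theorem NN.mono {S S' : Finset (PD m)} (h : NN S) (h' : S' ⊆ S) : NN S' := fun a ha b hb => h a (h' ha) b (h' hb)

theorem mem_Me {a : II m} {b : PD m} : b ∈ Me a ↔ ps b.1.2 + 1 < m ∨ ps b.1.2 = ps a := by simp only [Me, ps_eq, _root_.Finset.mem_filter, _root_.Finset.mem_univ, _root_.true_and]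
theorem mem_On {b : PD m} : b ∈ On m ↔ ps b.1.2 + 1 < m := by simp only [On, _root_.Finset.mem_filter, _root_.Finset.mem_univ, _root_.true_and]
theorem mem_M1 {b : PD m} : b ∈ M1 m ↔ ps b.1.1 = 0 := by simp only [M1, _root_.Finset.mem_filter, _root_.Finset.mem_univ, _root_.true_and]
theorem On_sub (a : II m) : On m ⊆ Me a := fun _ h => mem_Me.2 (Or.inl (mem_On.1 h))

/-- `Me a` is the radical for the node `l` -/
def Nd (l : Fin m) (a : II m) : Prop := (l.1 + 1 = m ∧ ps a + 1 = m) ∨ (l.1 + 2 = m ∧ ps a = m)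

private theorem ite_nn {p q n : ℕ} (h : ¬p + q + 1 = n) :
    (0 : ℤ) ≤ if p = q then 1 else if p + q + 1 = n then -1 else 0 := by
  rw [if_neg h]
  split_ifs <;> decide

private theorem ite_ge (p q n : ℕ) : (-1 : ℤ) ≤ if p = q then 1 else if p + q + 1 = n then -1 else 0 := by
  split_ifs <;> decide

theorem nn_Me {l : Fin m} {a : II m} (h : Nd l a) : NN (Me a) := fun b hb c hc => by
  have := b.2
  have := c.2
  rw [mem_Me] at hb hc
  rw [rd_rd]
  simp only [xv_wv']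
  unfold Nd at h
  exact add_nonneg (add_nonneg (ite_nn (by omega)) (ite_nn (by omega))) (add_nonneg (ite_nn (by omega)) (ite_nn (by omega)))

theorem nn_M1 : NN (M1 m) := fun b hb c hc => by
  have := b.2
  have := c.2
  rw [mem_M1] at hb hc
  rw [rd_rd]
  simp only [xv_wv']
  rw [if_pos (hb.trans hc.symm)]
  exact le_trans (by decide) (add_le_add (add_le_add le_rfl (ite_nn (by omega))) (add_le_add (ite_nn (by omega)) (ite_ge _ _ _)))

theorem gP_On {b : PD m} (h : b ∈ On m) : gP m b ∈ On m := by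
  rw [mem_On] at h ⊢
  rw [gP_val, ps_gI]
  split_ifs <;> omega

theorem gP_M1 {b : PD m} (h : b ∈ M1 m) : gP m b ∈ M1 m := by
  have := b.lt
  rw [mem_M1] at h ⊢
  rw [gP_val, ps_gI]
  split_ifs <;> omega

theorem card_Ix_On : (Ix (On m)).card ≤ m - 1 := by
  rw [← card_range (m - 1)]
  refine card_le_card_of_injOn ps (fun x hx => ?_) fun _ _ _ _ => ps_inj
  obtain ⟨b, hb, h⟩ := mem_biUnion.1 (mem_coe.1 hx)
  have h1 := mem_On.1 hb
  have h2 := b.2.1
  rw [mem_coe, mem_range]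
  rcases mem_insert.1 h with rfl | h
  · omega
  · rw [mem_singleton.1 h]; omega

theorem card_M1 : 6 ≤ (M1 4).card := by decide

section rad

variable {ι Φ : Type} [Fintype ι] [DecidableEq ι] [DecidableEq Φ] {R : RC ι Φ} {M : Finset Φ} {l : ι}
  (h : ∀ b, b ∈ M ↔ 0 < R.cf b l)
include h

theorem rad_up : R.Up M := fun b hb β a n e => (h a).2 (by have := (h b).1 hb; rw [e, Pi.add_apply]; omega)

theorem rad_s {j : ι} (hj : j ≠ l) : R.zi j ∉ M ∧ ∀ b ∈ M, R.s j b ∈ M := by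
  have h1 : R.zi j ∉ M := fun e => by
    have h2 := (h _).1 e
    rw [R.cf_zi, Pi.single_eq_of_ne hj.symm] at h2
    omega
  refine ⟨h1, fun b hb => (h _).2 ?_⟩
  have h2 := R.cf_s j b (fun e => h1 (e ▸ hb)) l
  have h3 := (h b).1 hb
  rw [if_neg hj.symm] at h2
  omega

end rad

variable [hm : Fact (2 ≤ m)]

theorem cf_Me {l : Fin m} {a : II m} (h : Nd l a) (b : PD m) : b ∈ Me a ↔ 0 < (eD m).rc.cf b l := by
  have h1 := cfD_eq b l
  have := b.2
  rw [rd_dot, xv_fw, xv_fw] at h1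
  rw [mem_Me]
  show _ ↔ 0 < cfD b l
  unfold Nd at h
  split_ifs at h1 <;> omega

theorem ab_of_nn {p : ℕ} (hp : p ≠ 1) {S : Finset (PD m)} (h : NN S) : (eD m).rc.Ab p S := by
  refine (abD hp).2 fun b hb b' hb' x y h0 h1 e => ?_
  have h2 : (rd b + rd b') ⬝ᵥ (rd b + rd b') = (wv x + wv y) ⬝ᵥ (wv x + wv y) := by rw [e]
  have h3 := h b hb b' hb'
  have h4 := h b' hb' b hb
  rw [add_dotProduct, dotProduct_add, dotProduct_add, rd_two, rd_two, add_dotProduct, wv_dot, wv_dot, xv_add, xv_add,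
    xv_wv_self, xv_wv_self, xv_wv, xv_wv] at h2
  split_ifs at h2 <;> first | omega | contradiction

theorem comm_of_nn {p : ℕ} {k G : Type} [Field k] [Group G] (D : RDat p (Fin m) (PD m) k G) (hR : D.R = (eD m).rc)
    {S : Finset (PD m)} (h : NN S) : ∀ b ∈ S, ∀ b' ∈ S, ∀ s t, Commute (D.z b s) (D.z b' t) := by
  refine fun b hb b' hb' => commute_of_cf D fun a u v hu hv e => ?_
  rw [hR] at e
  have h1 : rd a = (u : ℤ) • rd b + (v : ℤ) • rd b' := (eD m).cf_add_iff.1 e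
  have h2 := rd_two a
  have h3 := h b hb b' hb'
  have h4 := h b' hb' b hb
  rw [h1] at h2
  simp only [add_dotProduct, dotProduct_add, smul_dotProduct, dotProduct_smul, rd_two, smul_eq_mul] at h2
  have h5 : (1 : ℤ) ≤ u := by omega
  have h6 : (1 : ℤ) ≤ v := by omega
  nlinarith only [hu, hv, h2, mul_nonneg (mul_nonneg (zero_le_one.trans h5) (zero_le_one.trans h6)) (add_nonneg h3 h4)]

section step

theorem in_step {S : Finset (PD m)} {j : Fin m} (hs : ∀ b ∈ S, sD j b ∈ S) {p q p' q' : ℕ} (h : In S p q)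
    (h1 : p' = if p = min j.1 (m - 2) then j.1 + 1 else if p = j.1 + 1 then min j.1 (m - 2)
      else if p = 2 * m - 1 - min j.1 (m - 2) then 2 * m - 2 - j else if p = 2 * m - 2 - j then 2 * m - 1 - min j.1 (m - 2)
      else p)
    (h2 : q' = if q = min j.1 (m - 2) then j.1 + 1 else if q = j.1 + 1 then min j.1 (m - 2)
      else if q = 2 * m - 1 - min j.1 (m - 2) then 2 * m - 2 - j else if q = 2 * m - 2 - j then 2 * m - 1 - min j.1 (m - 2)
      else q) (h3 : p' < q') (h4 : p' + q' + 1 < 2 * m) : In S p' q' := by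
  obtain ⟨b, hb, rfl, rfl⟩ := h
  have h5 : 2 * m - 1 - (2 * m - 2 - j) = j + 1 := by have := j.2; omega
  have h6 := ps_rf2 (na j) (nb j) b.1.1
  have h7 := ps_rf2 (na j) (nb j) b.1.2
  rw [ps_na, ps_nb, h5] at h6 h7
  rw [← h1] at h6
  rw [← h2] at h7
  have h8 := hs b hb
  rw [sD, mkD, dif_pos (by omega)] at h8
  exact ⟨_, h8, h6, h7⟩

end step

variable {p : ℕ} (hp : p ≠ 1) {S : Finset (PD m)}
include hp

section idl

variable (hI : (eD m).rc.Idl p S)
include hI

theorem idl_isD {b : PD m} (hb : b ∈ S) {x y x' : II m} (h : IsD b x y) (h1 : ps x' < ps x)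
    (h2 : ps x' + ps x + 1 ≠ 2 * m) (h3 : ps x' ≠ ps y) : ∃ c ∈ S, IsD c x' y := by
  have h4 := ps_swap x
  have h5 := h.lt
  obtain ⟨β, hβ⟩ := exists_isD (x := x') (y := x.swap) (mt eq_swap_iff.1 h2) (by omega)
  obtain ⟨c, hc⟩ := exists_isD (x := x') (y := y) (mt ps_eq.1 h3) (by omega)
  exact ⟨c, idlD hp hI β hb (by rw [hc.rd, hβ.rd, h.rd, wv_swap]; abel), hc⟩

theorem idl_one {i j i' : ℕ} (h : In S i j) (h1 : i' ≤ i) : In S i' j := by
  rcases h1.eq_or_lt with rfl | h1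
  · exact h
  have h2 := h.lt
  obtain ⟨b, hb, rfl, rfl⟩ := h
  obtain ⟨x, rfl⟩ := exists_ps (m := m) (q := i') (by omega)
  obtain ⟨c, hc, h3⟩ := idl_isD hp hI hb (IsD.self b) h1 (by omega) (by omega)
  exact in_of_isD hc h3 (by omega)

theorem idl_two {i j j' : ℕ} (h : In S i j) (h0 : i < j') (h1 : j' < j) (h2 : j' + j + 1 ≠ 2 * m) : In S i j' := by
  have h3 := h.lt
  obtain ⟨b, hb, rfl, rfl⟩ := h
  obtain ⟨x, rfl⟩ := exists_ps (m := m) (q := j') (by omega)
  obtain ⟨c, hc, h4⟩ := idl_isD hp hI hb (IsD.self b).symm h1 h2 (by omega)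
  exact in_of_isD hc h4.symm h0

/-- the ideal property in positions -/
theorem idl_in {i j i' j' : ℕ} (h : In S i j) (h1 : i' ≤ i) (h2 : j' ≤ j) (h3 : i' < j') (h4 : ¬ (j = m ∧ j' + 1 = m)) :
    In S i' j' := by
  have h5 := idl_one hp hI h h1
  have h6 := h.lt
  rcases h2.eq_or_lt with rfl | h2
  · exact h5
  by_cases h7 : j' + j + 1 = 2 * m
  · exact idl_two hp hI (idl_two hp hI h5 (j' := m) (by omega) (by omega) (by omega)) h3 (by omega) (by omega)
  · exact idl_two hp hI h5 h3 h2 h7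

theorem eq_Me {l : Fin m} {a : II m} (h : Nd l a) (h4 : 4 ≤ m) (hS : S ⊆ Me a) (hne : S.Nonempty)
    (hs : ∀ j, j ≠ l → ∀ b ∈ S, sD j b ∈ S) : S = Me a := by
  unfold Nd at h
  obtain ⟨b, hb⟩ := hne
  have h0 := b.2
  have h1 : ∀ q, q + 2 < m → In S 0 (q + 1) := fun q => by
    induction q with
    | zero => exact fun _ => idl_in hp hI (in_self hb) (by omega) (by omega) (by omega) (by omega)
    | succ q ih =>
      exact fun hq => in_step (hs ⟨q + 1, by omega⟩ (Fin.ne_of_val_ne (by simp only; omega))) (ih (by omega))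
        (by simp only; split_ifs <;> first | omega | contradiction)
        (by simp only; split_ifs <;> omega) (by omega) (by omega)
  have h2 : ∀ i, i + 1 < m → In S i (ps a) := fun i => by
    induction i with
    | zero =>
      exact fun _ => in_step (hs ⟨ps a - 1, by omega⟩ (Fin.ne_of_val_ne (by simp only; omega))) (h1 (m - 3) (by omega))
        (by simp only; split_ifs <;> first | omega | contradiction)
        (by simp only; split_ifs <;> omega) (by omega) (by omega)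
    | succ i ih =>
      exact fun hi => in_step (hs ⟨i, by omega⟩ (Fin.ne_of_val_ne (by simp only; omega))) (ih (by omega))
        (by simp only; split_ifs <;> omega)
        (by simp only; split_ifs <;> omega) (by omega) (by omega)
  refine hS.antisymm fun c hc => In.mem ?_
  have h3 := c.lt
  have h5 := c.2.1
  rw [mem_Me] at hc
  exact idl_in hp hI (h2 (m - 2) (by omega)) (by omega) (by omega) h5 (by omega)

end idl

section ab

variable (hA : (eD m).rc.Ab p S)
include hA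

theorem ab_one {i j i' j' : ℕ} (h : In S i j) (h' : In S i' j') (e : j + j' + 1 = 2 * m) : i = i' := by
  have h1 := h.lt
  have h2 := h'.lt
  obtain ⟨b, hb, rfl, rfl⟩ := h
  obtain ⟨c, hc, rfl, rfl⟩ := h'
  by_contra h0
  refine (abD hp).1 hA b hb c hc b.1.1 c.1.1 (mt ps_eq.1 h0) (by rw [Ne, eq_swap_iff]; omega) ?_
  rw [rd, rd, eq_swap_iff.2 e, wv_swap]
  abel

theorem ab_two {i j i' j' : ℕ} (h : In S i j) (h' : In S i' j') : i + j' + 1 ≠ 2 * m := fun e => by
  have h1 := h.lt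
  have h2 := h'.lt
  obtain ⟨b, hb, rfl, rfl⟩ := h
  obtain ⟨c, hc, rfl, rfl⟩ := h'
  refine (abD hp).1 hA b hb c hc c.1.1 b.1.2 (by rw [Ne, ps_eq]; omega) (by rw [Ne, eq_swap_iff]; omega) ?_
  rw [rd, rd, eq_swap_iff.2 e, wv_swap]
  abel

theorem nn_of_ab : NN S := fun b hb c hc => by
  have h1 := b.2
  have h2 := c.2
  have h3 := ab_one hp hA (in_self hb) (in_self hc)
  have h4 := ab_two hp hA (in_self hb) (in_self hc)
  have h5 := ab_two hp hA (in_self hc) (in_self hb)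
  rw [rd_rd]
  simp only [xv_wv']
  by_cases e : ps b.1.2 + ps c.1.2 + 1 = 2 * m
  · rw [if_pos (h3 e)]
    exact le_trans (by decide) (add_le_add (add_le_add le_rfl (ite_nn h4)) (add_le_add (ite_nn (by omega)) (ite_ge _ _ _)))
  · exact add_nonneg (add_nonneg (ite_nn (by omega)) (ite_nn h4)) (add_nonneg (ite_nn (by omega)) (ite_nn e))

end ab

omit hp in
theorem full_of {q : ℕ} (h : ∀ j, 0 < j → j + 1 < m → In S 0 j) (hq : q + 1 = m ∨ q = m) (h' : In S 0 q) : FullS S := by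
  have h0 := hm.out
  have h1 : fst m < lst m := Fin.lt_def.2 (show 0 < m - 1 by omega)
  refine ⟨fun j hj hj' => In.mem (h j hj hj'), h1, hq.imp (fun e => In.mem ?_) fun e => In.mem ?_⟩
  · rwa [show q = m - 1 by omega] at h'
  · rwa [show q = 2 * m - 1 - (m - 1) by omega] at h'

omit hp in
theorem in_Me {l : Fin m} {a : II m} (h : Nd l a) {i j : ℕ} (h1 : i < j) (h2 : i + 1 < m)
    (h3 : j + 1 < m ∨ j = ps a) : In (Me a) i j := by
  unfold Nd at h
  obtain ⟨b, rfl, rfl⟩ := exists_in (m := m) h1 (by omega)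
  exact in_self (mem_Me.2 h3)

omit hp in
theorem full_Me {l : Fin m} {a : II m} (h : Nd l a) : FullS (Me a) := by
  have h0 := hm.out
  have h1 := h
  unfold Nd at h1
  exact full_of (fun j hj hj' => in_Me h hj (by omega) (Or.inl hj')) (by omega)
    (in_Me h (by omega) (by omega) (Or.inr rfl))

/-- `S` contains `ε_1 + ε_m` and `ε_1 - ε_m` -/
def CC (S : Finset (PD m)) : Prop := In S 0 (m - 1) ∧ In S 0 m

theorem cc_or (hI : (eD m).rc.Idl p S) : (∃ l a, Nd l a ∧ S ⊆ Me a) ∨ CC S := by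
  have h0 := hm.out
  have e1 : ps (inl (lst m) : II m) = m - 1 := rfl
  have e2 : ps (inr (lst m) : II m) = 2 * m - 1 - (m - 1) := rfl
  by_cases h1 : S ⊆ Me (inl (lst m))
  · exact Or.inl ⟨lst m, _, Or.inl ⟨by rw [lst_val]; omega, by omega⟩, h1⟩
  by_cases h2 : S ⊆ Me (inr (lst m))
  · exact Or.inl ⟨pen m, _, Or.inr ⟨by rw [pen_val]; omega, by omega⟩, h2⟩
  obtain ⟨b, hb, h3⟩ := not_subset.1 h1
  obtain ⟨c, hc, h4⟩ := not_subset.1 h2
  rw [mem_Me] at h3 h4
  exact Or.inr ⟨idl_in hp hI (in_self hc) (by omega) (by (clear * - h4; omega)) (by omega) (by omega),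
    idl_in hp hI (in_self hb) (by omega) (by (clear * - e1 h3; omega)) (by omega) (by omega)⟩

variable (hA : (eD m).rc.Ab p S) (hI : (eD m).rc.Idl p S) (hC : CC S)
include hI hC

theorem cc_full : FullS S := by
  have h0 := hm.out
  exact full_of (fun j hj hj' => idl_in hp hI hC.1 le_rfl (by omega) hj (by omega)) (Or.inr rfl) hC.2

include hA

theorem cc_zero {i j : ℕ} (h : In S i j) (hj : m ≤ j + 1) : i = 0 := by
  have h1 := h.lt
  by_cases e : j + 1 = m
  · exact ab_one hp hA h hC.2 (by omega)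
  · exact ab_one hp hA (idl_in hp hI h le_rfl (j' := m) (by omega) (by omega) (by omega)) hC.1 (by omega)

theorem cc_gP {b : PD m} (hb : b ∈ S) : gP m b ∈ S := by
  have h1 := b.lt
  have h2 := cc_zero hp hA hI hC (in_self hb)
  refine In.mem ?_
  rw [gP_val, ps_gI, ps_gI, if_neg (by omega), if_neg (by omega)]
  split_ifs
  · rw [h2 (by omega)]; exact hC.2
  · rw [h2 (by omega)]; exact hC.1
  · exact in_self hb

theorem cc_card {j : ℕ} (h : In S 1 j) : S.card ≤ (On m).card + 2 := by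
  have h0 := hm.out
  obtain ⟨o, ho⟩ := exists_ps (m := m) (q := 1) (by omega)
  obtain ⟨b1, -, h1, h1'⟩ := hC.1
  obtain ⟨b2, -, h2, h2'⟩ := hC.2
  let φ : PD m → PD m := fun b => if m < ps b.1.2 then mkD o b.1.2.swap b else b
  have key : ∀ b ∈ S, (m < ps b.1.2 ∧ ps b.1.1 = 0 ∧ ps (φ b).1.1 = 1 ∧ ps b.1.2 + ps (φ b).1.2 + 1 = 2 * m) ∨
      (ps b.1.2 ≤ m ∧ φ b = b) := fun b hb => by
    by_cases e : m < ps b.1.2
    · have h3 := ab_two hp hA h (in_self hb)
      have h4 := ps_swap b.1.2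
      have h5 := b.2
      have h6 : φ b = ⟨(o, b.1.2.swap), by simp only; omega⟩ := (if_pos e).trans (dif_pos _)
      exact Or.inl ⟨e, cc_zero hp hA hI hC (in_self hb) (by omega), by rw [h6]; exact ho, by rw [h6]; simp only; omega⟩
    · exact Or.inr ⟨not_lt.1 e, if_neg e⟩
  refine (card_le_card_of_injOn (t := insert b1 (insert b2 (On m))) φ (fun b hb => ?_) fun b hb c hc e => ?_).trans
    ((card_insert_le _ _).trans (Nat.succ_le_succ (card_insert_le _ _)))
  · rw [mem_coe, mem_insert, mem_insert, mem_On]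
    rcases key b hb with h3 | ⟨h3, h4⟩
    · exact Or.inr (Or.inr (by omega))
    · have h5 := cc_zero hp hA hI hC (in_self hb)
      rw [h4]
      by_cases e1 : ps b.1.2 + 1 = m
      · exact Or.inl (PD.ext' (by omega) (by omega))
      by_cases e2 : ps b.1.2 = m
      · exact Or.inr (Or.inl (PD.ext' (by omega) (by omega)))
      · exact Or.inr (Or.inr (by omega))
  · have h5 := ab_one hp hA (in_self hb) (in_self hc)
    rcases key b hb with h3 | ⟨-, h3⟩ <;> rcases key c hc with h4 | ⟨-, h4⟩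
    · rw [e] at h3
      exact PD.ext' (by omega) (by omega)
    · rw [e, h4] at h3
      omega
    · rw [← e, h3] at h4
      omega
    · rwa [h3, h4] at e

end Cfsg.Agent.TwoF.DC.TBD.CT
end

-- part: TwoF/DC/TBD/CTB
section
/-!
# TwoF, defining characteristic, type D, `boxCT` (2): natural and half spin modules (helper33)

`cub_min` : cubic action on minuscule modules; `spin_le` : the spin lemma; lower bounds for `cL`.
-/

set_option autoImplicit false
set_option linter.unusedSectionVars false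

namespace Cfsg.Agent.TwoF.DC.TBD.CT

open Finset Matrix Sum Cfsg.Agent.TwoF.DC.TC

/-- cubic action -/
def Cub3 {ι Φ : Type} [Fintype ι] [DecidableEq ι] [DecidableEq Φ] {R : RC ι Φ} {p : ℕ} {k L : Type} [Field k]
    [AddCommGroup L] [Module k L] (H : HW R p k L) (S : Finset Φ) : Prop :=
  ∀ a ∈ S, ∀ b ∈ S, ∀ c ∈ S, ∀ l n o, 0 < l → 0 < n → 0 < o → H.E (true, a) l * H.E (true, b) n * H.E (true, c) o = 0

variable {m : ℕ}

/-- a vector of signs -/
def Sv (v : Fin m → ℤ) : Prop := ∀ i, v i = 1 ∨ v i = -1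

theorem Sv.xv {v : Fin m → ℤ} (h : Sv v) (x : II m) : xv v x = 1 ∨ xv v x = -1 := by
  rcases x with i | i <;> have := h i <;> simp only [TC.xv] <;> omega

theorem Sv.dot {v : Fin m → ℤ} (h : Sv v) : v ⬝ᵥ v = m := by
  rw [dotProduct, sum_congr rfl fun i _ => show v i * v i = 1 by rcases h i with e | e <;> rw [e] <;> rfl]
  simp only [_root_.Finset.sum_const, _root_.Finset.card_univ, _root_.Fintype.card_fin, _root_.Int.nsmul_eq_mul, _root_.mul_one]

theorem Sv.wo {x y : Fin m → ℤ} (h : Sv x) (h' : WO x y) : Sv y := fun i => by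
  obtain ⟨π, ε, -, rfl⟩ := h'
  rw [sp_apply]
  rcases h (π i) with e | e <;> rcases Int.units_eq_one_or (ε i) with e' | e' <;> simp [e, e']

theorem sv_fw {l : Fin m} (h : m ≤ l.1 + 2) : Sv (fw l) := fun i => by
  simp only [fw]
  split_ifs <;> omega

theorem dot_self_nonneg (v : Fin m → ℤ) : 0 ≤ v ⬝ᵥ v := sum_nonneg fun _ _ => mul_self_nonneg _

/-- three orthogonal roots with the pairing `-1` -/
structure Tr (v : Fin m → ℤ) (a b c : PD m) : Prop where
  ha : rd a ⬝ᵥ v = -2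
  hb : rd b ⬝ᵥ v = -2
  hc : rd c ⬝ᵥ v = -2
  ab : rd a ⬝ᵥ rd b = 0
  ac : rd a ⬝ᵥ rd c = 0
  bc : rd b ⬝ᵥ rd c = 0

theorem disj {v : Fin m → ℤ} (hv : Sv v) {a b : PD m} (ha : rd a ⬝ᵥ v = -2) (hb : rd b ⬝ᵥ v = -2)
    (h : rd a ⬝ᵥ rd b = 0) : ps a.1.1 ≠ ps b.1.1 ∧ ps a.1.1 ≠ ps b.1.2 ∧ ps a.1.2 ≠ ps b.1.1 ∧ ps a.1.2 ≠ ps b.1.2 := by
  have key : ∀ x y : II m, xv v x = -1 → xv v y = -1 → ps x + ps y + 1 ≠ 2 * m := fun x y hx hy e => by
    rw [eq_swap_iff.2 e, xv_swap] at hx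
    omega
  rw [rd_dot] at ha hb
  have h1 := hv.xv a.1.1
  have h2 := hv.xv a.1.2
  have h3 := hv.xv b.1.1
  have h4 := hv.xv b.1.2
  have h5 := key a.1.1 b.1.1 (by omega) (by omega)
  have h6 := key a.1.1 b.1.2 (by omega) (by omega)
  have h7 := key a.1.2 b.1.1 (by (clear * - ha h1 h2; omega)) (by (clear * - hb h3 h4; omega))
  have h8 := key a.1.2 b.1.2 (by (clear * - ha h1 h2; omega)) (by (clear * - hb h3 h4; omega))
  rw [rd_rd] at h
  simp only [xv_wv', if_neg h5, if_neg h6, if_neg h7, if_neg h8] at h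
  split_ifs at h <;> omega

/-- signs from a set of positions -/
def sg (T : Finset ℕ) : Fin m → ℤˣ := fun i => if i.1 ∈ T then -1 else 1

variable [hm : Fact (2 ≤ m)]

theorem Tr.norm {v : Fin m → ℤ} {a b c : PD m} (h : Tr v a b c) :
    (v + rd a + rd b + rd c) ⬝ᵥ (v + rd a + rd b + rd c) = v ⬝ᵥ v - 6 := by
  simp only [add_dotProduct, dotProduct_add, dotProduct_comm v (rd _), dotProduct_comm (rd b) (rd a),
    dotProduct_comm (rd c) (rd a), dotProduct_comm (rd c) (rd b), rd_two, h.ha, h.hb, h.hc, h.ab, h.ac, h.bc]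
  ring

theorem Tr.six {v : Fin m → ℤ} {a b c : PD m} (h : Tr v a b c) : 6 ≤ v ⬝ᵥ v := by
  have := dot_self_nonneg (v + rd a + rd b + rd c)
  rw [h.norm] at this
  omega

/-- the sign changes at the positions in `T` and, if needed, at the last position -/
def sv (T : Finset ℕ) (x : Fin m → ℤ) : Fin m → ℤ := sp 1 (sg T * Pi.mulSingle (lst m) (∏ i : Fin m, sg T i)) x

theorem wo_sv (T : Finset ℕ) (x : Fin m → ℤ) : WO x (sv T x) := ⟨1, _, by
  simp only [Pi.mul_apply, prod_mul_distrib, prod_pi_mulSingle', mem_univ, if_true, Int.units_mul_self], rfl⟩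

theorem xv_sv {x : Fin m → ℤ} (h : ∀ i : Fin m, i.1 + 1 < m → x i = 1) (T : Finset ℕ) {y : II m} (hy : ps y + 1 < m) :
    xv (sv T x) y = if ps y ∈ T then -1 else 1 := by
  obtain ⟨i, rfl⟩ := exists_inl (a := y) (by omega)
  rw [ps_inl] at hy ⊢
  rw [xv_inl, sv, sp_apply, Pi.mul_apply, Pi.mulSingle_eq_of_ne (Fin.ne_of_val_ne (by rw [lst_val]; omega)), mul_one,
    Equiv.Perm.one_apply, h i hy, sg]
  split_ifs <;> rfl

theorem sv_single (x : Fin m → ℤ) {i : ℕ} (hi : i + 1 < m) : sv {i} x (lst m) = -x (lst m) := by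
  have h1 : ∏ j : Fin m, sg {i} j = -1 := by
    refine (prod_eq_single (⟨i, by omega⟩ : Fin m) (fun j _ hj => ?_) (by simp only [_root_.Finset.mem_univ, _root_.not_true_eq_false, _root_.IsEmpty.forall_iff])).trans (if_pos (mem_singleton_self _))
    exact if_neg fun e => hj (Fin.ext (mem_singleton.1 e))
  rw [sv, sp_apply, Pi.mul_apply, Pi.mulSingle_eq_same, h1, sg, if_neg (by rw [mem_singleton, lst_val]; omega)]
  simp

theorem neg_of_in {S : Finset (PD m)} {x : Fin m → ℤ} (h : ∀ i : Fin m, i.1 + 1 < m → x i = 1) {T : Finset ℕ} {i j : ℕ}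
    (hi : i ∈ T) (hj : j ∈ T) (hj' : j + 1 < m) (hS : In S i j) : ∃ b ∈ S, rd b ⬝ᵥ sv T x < 0 := by
  have h1 := hS.lt
  obtain ⟨b, hb, rfl, rfl⟩ := hS
  refine ⟨b, hb, ?_⟩
  rw [rd_dot, xv_sv h T (by omega), xv_sv h T hj', if_pos hi, if_pos hj]
  omega

variable {p : ℕ} {k L : Type} [Field k] [AddCommGroup L] [Module k L] {H : HW (eD m).rc p k L}

theorem e2_lz {l : Fin m} (h : H.lam = Pi.single l 1) : e2 H.lz = fw l := by
  rw [← e2_single]
  congr 1
  funext i
  rw [H.lz_apply, h, Pi.single_apply, Pi.single_apply]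
  split_ifs <;> rfl

theorem spn_fw (h : Spn H.lam) : ∃ l : Fin m, m ≤ l.1 + 2 ∧ e2 H.lz = fw l := by
  rcases h with h | h
  · exact ⟨_, by rw [pen_val]; omega, e2_lz h⟩
  · exact ⟨_, by rw [lst_val]; omega, e2_lz h⟩

theorem spn_one (h : Spn H.lam) (i : Fin m) (hi : i.1 + 1 < m) : e2 H.lz i = 1 := by
  obtain ⟨l, h1, h2⟩ := spn_fw h
  simp only [h2, fw]
  split_ifs <;> omega

theorem spn_sv (h : Spn H.lam) {y : Fin m → ℤ} (hy : WO (e2 H.lz) y) : Sv y := by
  obtain ⟨l, h1, h2⟩ := spn_fw h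
  exact (h2 ▸ sv_fw h1 : Sv (e2 H.lz)).wo hy

/-- cubic action on a minuscule module -/
theorem cub_min (hM : H.Min) {S : Finset (PD m)} (hS : NN S)
    (h : ∀ μ, H.IsWt μ → ∀ a ∈ S, ∀ b ∈ S, ∀ c ∈ S, ¬ Tr (e2 μ) a b c) : Cub3 H S := by
  refine H.cubic_of_wt S fun a ha b hb c hc l n o hl hn ho μ h1 h2 => ?_
  have key : ∀ (d : PD m) (x y z : ℤ), rd d ⬝ᵥ rd a = x → rd d ⬝ᵥ rd b = y → rd d ⬝ᵥ rd c = z → d ∈ S →
      -2 ≤ rd d ⬝ᵥ e2 μ ∧ rd d ⬝ᵥ e2 μ + 2 * (x + y + z) ≤ 2 ∧ 0 ≤ x ∧ 0 ≤ y ∧ 0 ≤ z := by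
    rintro d _ _ _ rfl rfl rfl hd
    have h3 := hM.pair_le h1 (false, d)
    have h4 := hM.pair_le h2 (true, d)
    have h5 := two_pair_true μ d
    have h6 := two_pair_true (μ + ((l : ℤ) • (eD m).rc.wt (true, a) + (n : ℤ) • (eD m).rc.wt (true, b) +
      (o : ℤ) • (eD m).rc.wt (true, c))) d
    rw [RC.pair_false] at h3
    simp only [e2_add, e2_smul, e2_wt_true, dotProduct_add, dotProduct_smul, smul_eq_mul] at h6
    have h7 := hS d hd a ha
    have h8 := hS d hd b hb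
    have h9 := hS d hd c hc
    have e1 := mul_le_mul_of_nonneg_right (show (1 : ℤ) ≤ l by omega) h7
    have e2 := mul_le_mul_of_nonneg_right (show (1 : ℤ) ≤ n by omega) h8
    have e3 := mul_le_mul_of_nonneg_right (show (1 : ℤ) ≤ o by omega) h9
    exact ⟨by omega, by linarith only [h4, h6, e1, e2, e3], h7, h8, h9⟩
  have h3 := key a _ _ _ (rd_two a) rfl rfl ha
  have h4 := key b _ _ _ rfl (rd_two b) rfl hb
  have h5 := key c _ _ _ rfl rfl (rd_two c) hc
  exact h μ h1 a ha b hb c hc ⟨by omega, by omega, by omega, by omega, by omega, by omega⟩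

theorem cub_nat (hM : H.Min) (hw : ∀ μ, H.IsWt μ ↔ ∃ a, e2 μ = (2 : ℤ) • wv a) {S : Finset (PD m)} (hS : NN S) :
    Cub3 H S := cub_min hM hS fun μ hμ a _ b _ c _ h => by
  obtain ⟨x, hx⟩ := (hw μ).1 hμ
  have h1 := h.six
  rw [hx, smul_dotProduct, dotProduct_smul, wv_dot, xv_wv_self] at h1
  simp at h1

theorem wo_of_wt (hM : H.Min) {μ : Fin m → ℤ} (h : H.IsWt μ) : WO (e2 H.lz) (e2 μ) := (ext_D H).1 (hM.ext h)

theorem cub_five (hM : H.Min) (hs : Spn H.lam) (h5 : m ≤ 5) {S : Finset (PD m)} (hS : NN S) : Cub3 H S :=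
  cub_min hM hS fun μ hμ a _ b _ c _ h => by
    have h1 := h.six
    rw [(spn_sv hs (wo_of_wt hM hμ)).dot] at h1
    omega

theorem cG_M1 (hM : H.Min) (hs : Spn H.lam) (h4 : 4 ≤ m) : H.cG (M1 m) + 2 ≤ H.d := by
  classical
  obtain ⟨l, hl⟩ := wo_iff.1 (wo_sv {1} (e2 H.lz))
  have h1 : H.IsWt ((eD m).rc.swl l H.lz) := (H.isWt_swl _ _).2 H.isWt_lz
  have h0 : ∀ y : II m, ps y + 1 < m → xv (e2 H.lz) y = 1 := fun y hy => by
    obtain ⟨i, rfl⟩ := exists_inl (a := y) (by omega)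
    exact spn_one hs i hy
  have h2 : (eD m).rc.swl l H.lz ≠ H.lz := fun e => by
    obtain ⟨y, hy⟩ := exists_ps (m := m) (q := 1) (by omega)
    have h3 := xv_sv (spn_one hs) {1} (y := y) (by omega)
    rw [hl, e, h0 y (by omega), if_pos (mem_singleton.2 hy)] at h3
    omega
  have h3 := hM.cG_le (M1 m) ((H.Wts.erase H.lz).erase ((eD m).rc.swl l H.lz)) fun μ hμ ⟨b, hb, h⟩ => by
    have h5 := (spn_sv hs ((ext_D H).1 hμ)).xv b.1.2
    rw [pair_neg_iff, rd_dot] at h
    rw [mem_M1] at hb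
    refine mem_erase.2 ⟨fun e => ?_, mem_erase.2 ⟨fun e => ?_, H.mem_Wts.2 hμ.isWt⟩⟩
    · have h6 := xv_sv (spn_one hs) {1} (y := b.1.1) (by omega)
      rw [hl, ← e, if_neg (by rw [mem_singleton]; omega)] at h6
      omega
    · have h6 := h0 b.1.1 (by omega)
      rw [← e] at h6
      omega
  have h5 := card_erase_add_one (mem_erase.2 ⟨h2, H.mem_Wts.2 h1⟩)
  have h6 := card_erase_add_one (H.mem_Wts.2 H.isWt_lz)
  have h7 := hM.d_eq
  omega

variable [Fact p.Prime] [CharP k p]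

/-- **the spin lemma** -/
theorem spin_le (S : Finset (PD m)) {x : Fin m → ℤ} (hx : WO (e2 H.lz) x) (h1 : ∀ i : Fin m, i.1 + 1 < m → x i = 1)
    (U : Finset (Finset ℕ)) (hU : ∀ T ∈ U, T ⊆ range (m - 1) ∧ ∃ b ∈ S, rd b ⬝ᵥ sv T x < 0) : U.card ≤ H.cL S := by
  have key : ∀ T ∈ U, ∀ T' : Finset ℕ, sv T x = sv T' x → T ⊆ T' := fun T hT T' e i hi => by
    have h2 := mem_range.1 ((hU T hT).1 hi)
    obtain ⟨y, rfl⟩ := exists_ps (m := m) (q := i) (by omega)
    have h3 := xv_sv h1 T (y := y) (by omega)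
    rw [e, xv_sv h1 T' (by omega), if_pos hi] at h3
    by_contra h4
    rw [if_neg h4] at h3
    omega
  rw [← card_image_of_injOn (f := fun T => sv T x) fun T hT T' hT' e => (key T hT T' e).antisymm (key T' hT' T e.symm)]
  refine card_le_cLD H S H.lz_dom (fun _ => le_rfl) _ fun y hy => ?_
  obtain ⟨T, hT, rfl⟩ := mem_image.1 hy
  exact ⟨hx.trans (wo_sv T x), (hU T hT).2⟩

theorem low_cc (hs : Spn H.lam) {S : Finset (PD m)} (hC : CC S) (V : Finset (Finset ℕ))
    (hV : ∀ T ∈ V, 0 ∉ T ∧ T ⊆ range (m - 1) ∧ ∃ i ∈ T, ∃ j ∈ T, In S i j) : 2 ^ (m - 2) + V.card ≤ H.cL S := by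
  have h0 := hm.out
  have h1 : ∀ T ∈ powerset (Ico 1 (m - 1)), 0 ∉ T := fun T hT e => by
    have := mem_Ico.1 (mem_powerset.1 hT e)
    omega
  have h2 := spin_le S (WO.refl _) (spn_one hs) ((powerset (Ico 1 (m - 1))).image (insert 0) ∪ V) fun T hT => by
    rcases mem_union.1 hT with hT | hT
    · obtain ⟨T, hT', rfl⟩ := mem_image.1 hT
      refine ⟨insert_subset (mem_range.2 (by omega)) fun i hi => mem_range.2 (mem_Ico.1 (mem_powerset.1 hT' hi)).2, ?_⟩
      obtain ⟨b, hb, e1, e2⟩ := hC.1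
      obtain ⟨c, hc, e3, e4⟩ := hC.2
      have h3 := xv_sv (spn_one hs) (insert 0 T) (y := b.1.1) (by omega)
      have h4 := xv_sv (spn_one hs) (insert 0 T) (y := c.1.1) (by omega)
      have h5 := xv_swap (sv (insert 0 T) (TBD.e2 H.lz)) b.1.2
      rw [e1, if_pos (mem_insert_self _ _)] at h3
      rw [e3, if_pos (mem_insert_self _ _)] at h4
      rw [← eq_swap_iff.2 (show ps c.1.2 + ps b.1.2 + 1 = 2 * m by omega)] at h5
      by_cases h6 : xv (sv (insert 0 T) (TBD.e2 H.lz)) b.1.2 ≤ 0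
      · exact ⟨b, hb, by rw [rd_dot]; omega⟩
      · exact ⟨c, hc, by rw [rd_dot]; omega⟩
    · obtain ⟨-, h3, i, hi, j, hj, h4⟩ := hV T hT
      exact ⟨h3, neg_of_in (spn_one hs) hi hj (by have := mem_range.1 (h3 hj); omega) h4⟩
  rwa [card_union_of_disjoint, card_image_of_injOn, card_powerset, Nat.card_Ico, show m - 1 - 1 = m - 2 by omega] at h2
  · intro T hT T' hT' e
    rw [← erase_insert (h1 T hT), e, erase_insert (h1 T' hT')]
  · refine disjoint_left.2 fun T hT hT' => (hV T hT').1 ?_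
    obtain ⟨T, -, rfl⟩ := mem_image.1 hT
    exact mem_insert_self _ _

theorem two_in {l : Fin m} {a : II m} (h : Nd l a) {x : Fin m → ℤ} (h1 : ∀ i : Fin m, i.1 + 1 < m → x i = 1)
    {T : Finset ℕ} (hT : T ⊆ range (m - 1)) (h2 : 1 < T.card) : ∃ b ∈ Me a, rd b ⬝ᵥ sv T x < 0 := by
  obtain ⟨i, hi, j, hj, e⟩ := one_lt_card.1 h2
  have h3 := mem_range.1 (hT hi)
  have h4 := mem_range.1 (hT hj)
  rcases lt_or_gt_of_ne e with e | e
  · exact neg_of_in h1 hi hj (by omega) (in_Me h e (by omega) (Or.inl (by omega)))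
  · exact neg_of_in h1 hj hi (by omega) (in_Me h e (by omega) (Or.inl (by omega)))

theorem low_me (hs : Spn H.lam) {l : Fin m} {a : II m} (h : Nd l a) : 2 ^ (m - 1) ≤ H.cL (Me a) + m := by
  have h0 := hm.out
  have h1 := spin_le (Me a) (WO.refl _) (spn_one hs) ((powerset (range (m - 1))).filter fun T => 1 < T.card) fun T hT =>
    ⟨mem_powerset.1 (mem_filter.1 hT).1, two_in h (spn_one hs) (mem_powerset.1 (mem_filter.1 hT).1) (mem_filter.1 hT).2⟩
  have h2 := card_filter_add_card_filter_not (s := powerset (range (m - 1))) fun T => 1 < T.card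
  have h3 : ((powerset (range (m - 1))).filter fun T => ¬ 1 < T.card) ⊆ insert ∅ ((range (m - 1)).image singleton) := by
    intro T hT
    obtain ⟨h4, h5⟩ := mem_filter.1 hT
    rcases T.eq_empty_or_nonempty with rfl | ⟨i, hi⟩
    · exact mem_insert_self _ _
    · exact mem_insert_of_mem (mem_image.2 ⟨i, mem_powerset.1 h4 hi,
        (eq_singleton_iff_unique_mem.2 ⟨hi, fun j hj => card_le_one.1 (not_lt.1 h5) j hj i hi⟩).symm⟩)
  have h4 := (card_le_card h3).trans ((card_insert_le _ _).trans (Nat.succ_le_succ card_image_le))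
  rw [card_powerset, card_range] at h2
  rw [card_range] at h4
  omega

theorem low_ev {l : Fin m} {a : II m} (h : Nd l a) {x : Fin m → ℤ} (hx : WO (e2 H.lz) x)
    (h1 : ∀ i : Fin m, i.1 + 1 < m → x i = 1) (h2 : xv x a = 1) : 2 ^ (m - 1) ≤ H.cL (Me a) + 1 := by
  have h3 := spin_le (Me a) hx h1 ((powerset (range (m - 1))).erase ∅) fun T hT => by
    have h4 := mem_powerset.1 (mem_erase.1 hT).2
    refine ⟨h4, ?_⟩
    by_cases h5 : 1 < T.card
    · exact two_in h h1 h4 h5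
    obtain ⟨i, rfl⟩ := card_eq_one.1 (le_antisymm (not_lt.1 h5) (card_pos.2 (nonempty_iff_ne_empty.2 (mem_erase.1 hT).1)))
    have h6 := mem_range.1 (h4 (mem_singleton_self i))
    have h7 := h
    unfold Nd at h7
    obtain ⟨b, hb, e1, e2⟩ := in_Me h (i := i) (by omega) (by omega) (Or.inr rfl)
    refine ⟨b, hb, ?_⟩
    have h8 := sv_single x (i := i) (by omega)
    have h9 : a = inl (lst m) ∨ a = inr (lst m) := by
      simp only [ps_eq, ps_inl, ps_inr, lst_val]
      (clear * - h7; omega)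
    rw [rd_dot, xv_sv h1 _ (by omega), if_pos (mem_singleton.2 e1), ps_inj e2]
    rcases h9 with rfl | rfl <;> simp only [xv] at h2 ⊢ <;> omega
  have h4 := card_erase_add_one (empty_mem_powerset (range (m - 1)))
  rw [card_powerset, card_range] at h4
  omega

theorem low_node {l : Fin m} {a : II m} (h : Nd l a) (hl : H.lam = Pi.single l 1) : 2 ^ (m - 1) ≤ H.cL (Me a) + 1 := by
  have h1 := h
  unfold Nd at h1
  refine low_ev h (WO.refl _) (fun i hi => ?_) ?_
  · simp only [e2_lz hl, fw]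
    split_ifs <;> omega
  · rw [e2_lz hl, xv_fw]
    split_ifs <;> omega

/-- half spin modules are cubic for `Me a` -/
theorem cub_me (hM : H.Min) (hs : Spn H.lam) {l : Fin m} {a : II m} (h : Nd l a) (hc : H.cL (Me a) ≤ m * (m - 1)) :
    Cub3 H (Me a) := by
  refine cub_min hM (nn_Me h) fun μ hμ b hb c hc' d hd ht => ?_
  have h1 := wo_of_wt hM hμ
  have h2 := spn_sv hs h1
  have h3 := ht.six
  have h4 := ht.norm
  rw [h2.dot] at h3 h4
  have h5 := low_me hs h
  have h6 : m = 6 := by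
    by_contra h6
    have h7 : ∀ n : ℕ, (n + 7) * (n + 7) < 2 ^ (n + 6) := fun n => by
      induction n with
      | zero => norm_num
      | succ n ih => rw [show n + 1 + 6 = n + 6 + 1 by omega, pow_succ]; nlinarith only [ih]
    obtain ⟨n, rfl⟩ : ∃ n, m = n + 7 := ⟨m - 7, by omega⟩
    have h8 := h7 n
    rw [show n + 7 - 1 = n + 6 by omega] at h5 hc
    linarith only [hc, h5, h8]
  have h7 := dotProduct_self_eq_zero.1 (h4.trans (by omega))
  have h8 : ∀ y : II m, ps y + 1 < m ∨ ps y = ps a → xv (-e2 μ) y = 1 := fun y hy => by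
    have key : ∀ e ∈ Me a, 0 ≤ xv (rd e) y := fun e he => by
      have := e.2
      rw [mem_Me] at he
      rw [rd, xv_add, xv_wv', xv_wv']
      unfold Nd at h
      split_ifs <;> omega
    have h9 := congrArg (xv · y) h7
    have := key b hb
    have := key c hc'
    have := key d hd
    have := h2.xv y
    have := congrArg (xv · y) h7
    simp only [xv_add, xv_zero] at h9
    rw [xv_neg]
    omega
  have h9 := low_ev h (h1.trans ⟨1, fun _ => -1, by subst h6; simp only [_root_.Finset.prod_const, _root_.Finset.card_univ, _root_.Fintype.card_fin]; rfl, (sp_neg _).symm⟩)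
    (fun i hi => h8 (inl i) (Or.inl hi)) (h8 a (Or.inr rfl))
  subst h6
  omega

/-- half spin modules are cubic for the sets which contain `ε_1 ± ε_m` -/
theorem cub_cc (hM : H.Min) (hs : Spn H.lam) {S : Finset (PD m)} (hA : (eD m).rc.Ab p S) (hI : (eD m).rc.Idl p S)
    (hC : CC S) (hO : 2 * (On m).card = (m - 1) * (m - 2)) (hc : H.cL S ≤ 2 * S.card) : Cub3 H S := by
  have hp := (Fact.out : p.Prime).ne_one
  have key : ∀ b ∈ S, ∀ c ∈ S, ps b.1.1 ≠ 0 → ps c.1.1 ≠ 0 →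
      ¬ (ps b.1.1 ≠ ps c.1.1 ∧ ps b.1.1 ≠ ps c.1.2 ∧ ps b.1.2 ≠ ps c.1.1 ∧ ps b.1.2 ≠ ps c.1.2) := fun b hb c hc' e1 e2 e => by
    have h1 := b.2.1
    have h2 := c.2.1
    have h3 := cc_zero hp hA hI hC (in_self hb)
    have h4 := cc_zero hp hA hI hC (in_self hc')
    have h5 : In S 1 4 := by
      by_cases h : 4 ≤ ps b.1.2
      · exact idl_in hp hI (in_self hb) (by (clear * - e1; omega)) h (by omega) (by (clear * - e1 h3; omega))
      · exact idl_in hp hI (in_self hc') (by (clear * - e2; omega)) (by (clear * - e1 e2 e h; omega)) (by omega) (by (clear * - e2 h4; omega))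
    have h6 : In S 2 3 := by
      by_cases h : 2 ≤ ps b.1.1
      · exact idl_in hp hI (in_self hb) h (by omega) (by omega) (by omega)
      · exact idl_in hp hI (in_self hc') (by (clear * - e1 e2 e h; omega)) (by (clear * - e1 e2 e h; omega)) (by omega) (by (clear * - e2 h4; omega))
    have h7 : 6 ≤ m := by (clear * - e1 e2 e h3 h4; omega)
    have h8 : In S 1 3 := idl_one hp hI h6 (by omega)
    have h9 : In S 1 2 := idl_in hp hI h8 le_rfl (by omega) (by omega) (by omega)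
    have h10 := low_cc hs hC {{1, 2}, {1, 3}, {1, 4}, {2, 3}, {1, 2, 3}, {1, 2, 4}, {1, 3, 4}, {2, 3, 4}, {1, 2, 3, 4}}
      fun T hT => by
        have h11 : 0 ∉ T ∧ T ⊆ range 5 ∧ ((1 ∈ T ∧ 2 ∈ T) ∨ (1 ∈ T ∧ 3 ∈ T) ∨ (1 ∈ T ∧ 4 ∈ T) ∨ (2 ∈ T ∧ 3 ∈ T)) := by
          revert T
          decide +kernel
        refine ⟨h11.1, h11.2.1.trans (range_subset_range.2 (by omega)), ?_⟩
        rcases h11.2.2 with h | h | h | h
        exacts [⟨_, h.1, _, h.2, h9⟩, ⟨_, h.1, _, h.2, h8⟩, ⟨_, h.1, _, h.2, h5⟩, ⟨_, h.1, _, h.2, h6⟩]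
    have h11 := cc_card hp hA hI hC h5
    have h12 : ∀ n : ℕ, (n + 5) * (n + 4) < 2 ^ (n + 4) + 5 := fun n => by
      induction n with
      | zero => norm_num
      | succ n ih => rw [show n + 1 + 4 = n + 4 + 1 by omega, pow_succ]; nlinarith only [ih]
    have h13 := h12 (m - 6)
    rw [show m - 6 + 5 = m - 1 by omega, show m - 6 + 4 = m - 2 by omega] at h13
    rw [show card _ = 9 by decide] at h10
    omega
  refine cub_min hM (nn_of_ab hp hA) fun μ hμ a ha b hb c hc' ht => ?_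
  have h1 := spn_sv hs (wo_of_wt hM hμ)
  have h2 := disj h1 ht.ha ht.hb ht.ab
  have h3 := disj h1 ht.ha ht.hc ht.ac
  have h4 := disj h1 ht.hb ht.hc ht.bc
  by_cases e1 : ps a.1.1 = 0
  · exact key b hb c hc' (by (clear * - h2 e1; omega)) (by (clear * - h3 e1; omega)) h4
  by_cases e2 : ps b.1.1 = 0
  · exact key a ha c hc' e1 (by omega) h3
  · exact key a ha b hb e1 e2 h2

end Cfsg.Agent.TwoF.DC.TBD.CT
end

-- part: TwoF/DC/TBD/CT
section
/-!
# TwoF, defining characteristic, type D: `boxCT` (helper33)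
-/

set_option autoImplicit false
set_option linter.unusedSectionVars false

namespace Cfsg.Agent.TwoF.DC.TBD

open Finset Matrix Sum Cfsg.Agent.TwoF.DC.TC

namespace CT

section fam

variable {p : ℕ} {ι Φ k G : Type} [Fintype ι] [DecidableEq ι] [Fintype Φ] [DecidableEq Φ] [Field k] [Group G]
  {D : RDat p ι Φ k G} {σ : Equiv.Perm ι} (F : Fam D σ) {S : Finset Φ}

theorem good_of {σ' : Equiv.Perm Φ} (hne : S.Nonempty) (hσ : ∀ b ∈ S, σ' b ∈ S)
    (hc : ∀ b ∈ S, ∀ b' ∈ S, ∀ s t, Commute (D.z b s) (D.z b' t)) (hd : ∀ j, F.dbl j = false)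
    (h3 : ∀ j, Cub3 (F.H j) S) (hv : ∑ j, (F.H j).cG S ≤ 2 * S.card) : F.Good σ' :=
  ⟨S, hne, hσ, hc, fun j _ => h3 j, fun j hj => by simp [hd j] at hj, by
    simp only [Fam.valG, hd, Bool.false_eq_true, if_false, ← mul_sum]
    omega⟩

theorem term_le (hv : F.val S ≤ 4 * S.card) (j : F.J) :
    (if F.dbl j then (F.H j).cL S * (2 * (F.H j).d - (F.H j).cL S) else 2 * (F.H j).cL S) ≤ 4 * S.card :=
  (single_le_sum (f := fun j => if F.dbl j then (F.H j).cL S * (2 * (F.H j).d - (F.H j).cL S) else 2 * (F.H j).cL S)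
    (fun _ _ => Nat.zero_le _) (mem_univ j)).trans hv

theorem sum_le (hv : F.val S ≤ 4 * S.card) (hd : ∀ j, F.dbl j = false) : ∑ j, (F.H j).cL S ≤ 2 * S.card := by
  simp only [Fam.val, hd, Bool.false_eq_true, if_false, ← mul_sum] at hv
  omega

end fam

theorem le_pow {m : ℕ} (h : 4 ≤ m) : m ≤ 2 ^ (m - 2) ∧ 2 ^ (m - 1) = 2 * 2 ^ (m - 2) := by
  obtain ⟨n, rfl⟩ : ∃ n, m = n + 4 := ⟨m - 4, by omega⟩
  have := Nat.lt_two_pow_self (n := n)
  rw [show n + 4 - 2 = n + 2 by omega, show n + 4 - 1 = n + 2 + 1 by omega, pow_succ, pow_succ 2 (n + 1 + 1), pow_succ,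
    pow_succ]
  omega

theorem eq_four {m : ℕ} (h4 : 4 ≤ m) (h : 2 * 2 ^ (m - 1) ≤ m * (m - 1) + m + 1) : m = 4 := by
  by_contra h5
  have h7 : ∀ n : ℕ, (n + 5) * (n + 5) + 1 < 2 * 2 ^ (n + 4) := fun n => by
    induction n with
    | zero => norm_num
    | succ n ih => rw [show n + 1 + 4 = n + 4 + 1 by omega, pow_succ]; nlinarith only [ih]
  obtain ⟨n, rfl⟩ : ∃ n, m = n + 5 := ⟨m - 5, by omega⟩
  have h8 := h7 n
  rw [show n + 5 - 1 = n + 4 by omega] at h
  linarith only [h, h8]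

variable {m : ℕ} [Fact (2 ≤ m)] {p : ℕ} [Fact p.Prime] {k L : Type} [Field k] [CharP k p] [AddCommGroup L] [Module k L]

/-- one module: natural or half spin, not a double -/
theorem one (hB : BoxBig) (hM : BoxMin) (h4 : 4 ≤ m) (H : HW (eD m).rc p k L) {S : Finset (PD m)} (hne : S.Nonempty)
    (hA : (eD m).rc.Ab p S) (hF : FullS S) (hs : Spn H.lam → 2 ^ (m - 2) ≤ H.cL S) (c : Bool)
    (hv : (if c then H.cL S * (2 * H.d - H.cL S) else 2 * H.cL S) ≤ 4 * S.card) :
    (Nt H.lam ∨ Spn H.lam) ∧ H.Min ∧ c = false := by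
  obtain ⟨-, h1, h2⟩ := hM p m h4
  obtain ⟨h3, h5, -⟩ := h1 S hA
  have h6 := H.cL_lt_d S
  have h7 : Nt H.lam ∨ Spn H.lam := by
    by_contra h
    have h8 := (hB p m h4 k L H (fun e => h (Or.inl e)) fun e => h (Or.inr e)).1 S hF
    have h9 := Nat.mul_le_mul_left (H.cL S) (show 2 ≤ 2 * H.d - H.cL S by omega)
    split_ifs at hv <;> omega
  refine ⟨h7, h7.elim (fun h => ((h2 k L H).1 h).1) fun h => ((h2 k L H).2 h).1, ?_⟩
  cases c
  · rfl
  rw [if_pos rfl] at hv
  rcases h7 with h | h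
  · obtain ⟨-, h8, -, h9⟩ := (h2 k L H).1 h
    rw [← (h9 S).1] at h5
    have h10 := Nat.mul_le_mul_left (H.cL S) (show 2 * (m - 1) + 1 ≤ 2 * H.d - H.cL S by omega)
    have h11 := card_pos.2 hne
    have h12 : H.cL S ≠ 0 := fun e => by rw [e] at h5; omega
    exact absurd hv (by linarith only [h5, h10, Nat.pos_of_ne_zero h12])
  · have h8 := ((h2 k L H).2 h).2
    have h9 := le_pow h4
    have h10 := Nat.mul_le_mul (h9.1.trans (hs h)) (show 2 * m ≤ 2 * H.d - H.cL S by omega)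
    have h11 := Nat.mul_lt_mul_of_pos_left (show m - 1 < m by omega) (show 0 < m by omega)
    exact absurd hv (by linarith only [h3, h10, h11])

end CT

open CT in
/-- **type `D`: offenders inside `K`** -/
theorem boxCT (hB : BoxBig) (hM : BoxMin) : BoxCT := by
  intro p _ m _ h4 k G _ _ _ D hR σ σ' hσ F hT S hne hA hI hv
  classical
  have hp := (Fact.out : p.Prime).ne_one
  have hcm := fun S (h : NN S) => comm_of_nn D hR h
  obtain ⟨_, R, _, _, _, _, _, _, _, _⟩ := D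
  obtain rfl : R = _ := hR
  obtain ⟨⟨-, hO⟩, hS, hH⟩ := hM p m h4
  have hN := fun j => (hH k _ (F.H j)).1
  rcases cc_or hp hI with ⟨l, a, hl, hS'⟩ | hC
  swap
  · have h1 := fun j => _root_.Cfsg.Agent.TwoF.DC.TBD.CT.one hB hM h4 (F.H j) hne hA (cc_full hp hI hC) (fun h => low_cc h hC ∅ (by simp only [_root_.Finset.notMem_empty, _root_.IsEmpty.forall_iff, _root_.implies_true])) _ (term_le F hv j)
    have h2 := sum_le F hv fun j => (h1 j).2.2
    refine Or.inl (good_of F hne (fun b hb => ?_) (hcm S (nn_of_ab hp hA)) (fun j => (h1 j).2.2) (fun j => ?_) ?_)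
    · rcases hσ with ⟨-, rfl⟩ | ⟨-, rfl⟩
      exacts [hb, cc_gP hp hA hI hC hb]
    · rcases (h1 j).1 with h | h
      · exact cub_nat (h1 j).2.1 (hN j h).2.2.1 (nn_of_ab hp hA)
      · exact cub_cc (h1 j).2.1 h hA hI hC hO
          ((single_le_sum (f := fun j => (F.H j).cL S) (fun _ _ => Nat.zero_le _) (mem_univ j)).trans h2)
    · rwa [sum_congr rfl fun j _ => (F.H j).cG_eq_cL ((h1 j).2.1.kerL_le_kerG S)]
  obtain ⟨S', h1, h2, h3, h5, h6⟩ := hT (Me a) (rad_up (cf_Me hl)) ⟨S, hS', hne, hv⟩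
  obtain rfl := eq_Me hp h3 hl h4 h1 h2 fun j hj => h6 j (rad_s (cf_Me hl) hj).1 (rad_s (cf_Me hl) hj).2
  clear hne hA hI hv hS' h1 h6 S
  have hA := ab_of_nn hp (nn_Me hl)
  have hpw := le_pow h4
  have h1 := fun j => _root_.Cfsg.Agent.TwoF.DC.TBD.CT.one hB hM h4 (F.H j) h2 hA (full_Me hl) (fun h => by have := low_me h hl; omega) _ (term_le F h5 j)
  have hd := fun j => (h1 j).2.2
  have h6 := sum_le F h5 hd
  obtain ⟨h7, h8, -⟩ := hS _ hA
  rcases hσ with ⟨rfl, rfl⟩ | ⟨rfl, rfl⟩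
  · refine Or.inl (good_of F h2 (fun b hb => hb) (hcm _ (nn_Me hl)) hd (fun j => ?_) ?_)
    · rcases (h1 j).1 with h | h
      · exact cub_nat (h1 j).2.1 (hN j h).2.2.1 (nn_Me hl)
      · exact cub_me (h1 j).2.1 h hl
          (((single_le_sum (f := fun j => (F.H j).cL (Me a)) (fun _ _ => Nat.zero_le _) (mem_univ j)).trans h6).trans h7)
    · rwa [sum_congr rfl fun j _ => (F.H j).cG_eq_cL ((h1 j).2.1.kerL_le_kerG _)]
  by_cases hn : ∀ j, Nt (F.H j).lam
  · rw [sum_congr rfl fun j _ => ((hN j (hn j)).2.2.2 _).1, sum_const, card_univ, smul_eq_mul] at h6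
    have h9 := card_pos.2 h2
    have h10 : 0 < (Ix (Me a)).card := Nat.pos_of_ne_zero fun e => by rw [e] at h8; omega
    have h11 := Nat.le_of_mul_le_mul_right (h6.trans h8) h10
    rcases h11.eq_or_lt with h11 | h11
    · exact Or.inr ⟨rfl, fun j => ⟨hn j, hd j⟩, h11⟩
    obtain ⟨b, e1, e2⟩ := exists_in (m := m) (p := 0) (q := 1) (by omega) (by omega)
    have h12 := (nn_Me hl).mono (On_sub a)
    refine Or.inl (good_of F ⟨b, mem_On.2 (by omega)⟩ (fun _ => gP_On) (hcm _ h12) hd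
      (fun j => cub_nat (h1 j).2.1 (hN j (hn j)).2.2.1 h12) ?_)
    rw [sum_congr rfl fun j _ => ((hN j (hn j)).2.2.2 _).2, sum_const, card_univ, smul_eq_mul, hO, mul_comm]
    exact Nat.mul_le_mul card_Ix_On (by omega)
  obtain ⟨j, hj⟩ := not_forall.1 hn
  have hs := (h1 j).1.resolve_left hj
  have h9 : ∀ i : Fin m, (Pi.single i 1 : Fin m → ℕ) ∘ (gN m).symm = Pi.single (gN m i) 1 := fun i => funext fun x => by
    simp only [Function.comp_apply, Pi.single_apply, Equiv.symm_apply_eq]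
  obtain ⟨j0, j1, e0, e1, e2⟩ : ∃ j0 j1, (F.H j0).lam = Pi.single l 1 ∧ Spn (F.H j1).lam ∧ j0 ≠ j1 := by
    obtain ⟨i, hi, h10⟩ : ∃ i : Fin m, m ≤ i.1 + 2 ∧ (F.H j).lam = Pi.single i 1 := by
      rcases hs with h | h
      · exact ⟨_, by rw [pen_val]; omega, h⟩
      · exact ⟨_, by rw [lst_val]; omega, h⟩
    have h11 := F.lam_π j
    rw [h10, h9] at h11
    have h12 := gN_val i
    have h13 := i.2
    have h14 : F.π j ≠ j := fun e => by
      rw [e, h10] at h11
      have h15 := congrFun h11 i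
      rw [Pi.single_eq_same, Pi.single_eq_of_ne (Fin.ne_of_val_ne (by split_ifs at h12 <;> omega))] at h15
      omega
    have h15 : Spn (F.H (F.π j)).lam := by
      rw [h11]
      by_cases e : i.1 + 1 = m
      · exact Or.inl (by rw [show gN m i = pen m from Fin.ext (by rw [pen_val]; split_ifs at h12 <;> omega)])
      · exact Or.inr (by rw [show gN m i = lst m from Fin.ext (by rw [lst_val]; split_ifs at h12 <;> omega)])
    by_cases e : i = l
    · exact ⟨j, _, e ▸ h10, h15, h14.symm⟩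
    · have h16 := Fin.val_ne_of_ne e
      unfold Nd at hl
      exact ⟨_, j, by rw [h11, show gN m i = l from Fin.ext (by split_ifs at h12 <;> omega)], hs, h14⟩
  have h10 := low_node hl e0
  have h11 := low_me e1 hl
  have h12 := (sum_le_sum_of_subset (f := fun j => (F.H j).cL (Me a)) (subset_univ {j0, j1})).trans h6
  rw [sum_pair e2] at h12
  obtain rfl := eq_four h4 (by omega)
  have h13 : (univ : Finset F.J) = {j0, j1} := by
    symm
    refine eq_univ_of_forall fun i => by_contra fun hi => ?_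
    have h14 := (sum_le_sum_of_subset (f := fun j => (F.H j).cL (Me a)) (subset_univ (insert i {j0, j1}))).trans h6
    rw [sum_insert hi, sum_pair e2] at h14
    rcases (h1 i).1 with h | h
    · have := ((hN i h).2.2.2 (Me a)).1
      omega
    · have := low_me h hl
      omega
  have h14 : ∀ i, Spn (F.H i).lam := fun i => by
    have h15 := mem_univ i
    rw [h13, mem_insert, mem_singleton] at h15
    rcases h15 with rfl | rfl
    · rw [e0]
      unfold Nd at hl
      exact hl.symm.imp (fun h => by rw [show l = pen 4 from Fin.ext (by rw [pen_val]; omega)])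
        fun h => by rw [show l = lst 4 from Fin.ext (by rw [lst_val]; omega)]
    · exact e1
  have h15 := card_M1
  have h16 : ∀ i, (F.H i).cG (M1 4) ≤ 6 := fun i => by
    have := cG_M1 (h1 i).2.1 (h14 i) h4
    have := ((hH k _ (F.H i)).2 (h14 i)).2
    omega
  refine Or.inl (good_of F (card_pos.1 (by omega)) (fun _ => gP_M1) (hcm _ nn_M1) hd
    (fun i => cub_five (h1 i).2.1 (h14 i) (by omega) nn_M1) ?_)
  have := h16 j0
  have := h16 j1
  rw [h13, sum_pair e2]
  omega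

end Cfsg.Agent.TwoF.DC.TBD
end

-- part: TwoF/DC/TBD/DDNat
section
/-!
# TwoF, defining characteristic, type D, `boxD` (1): the natural module (helper77)
-/

set_option autoImplicit false
set_option linter.unusedSectionVars false

namespace Cfsg.Agent.TwoF.DC.TBD.DD

open Finset Module Matrix Sum Cfsg.Agent.TwoF.DC.TC Cfsg.Agent.TwoF.Gen

variable {m : ℕ} [hm : Fact (2 ≤ m)]

/-- the weight of a signed index -/
def om (a : II m) : Fin m → ℤ := fun i => rd (zd i) ⬝ᵥ wv a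

theorem e2_om (a : II m) : e2 (om a) = (2 : ℤ) • wv a :=
  (isW_D.1 fun i => by show rd (zd i) ⬝ᵥ _ = _; rw [dotProduct_smul, smul_eq_mul]; rfl).symm

theorem om_ne {a b : II m} (h : a ≠ b) : om a ≠ om b := fun e =>
  h (wv_inj (smul_right_injective _ (two_ne_zero (α := ℤ)) (show (2 : ℤ) • wv a = (2 : ℤ) • wv b by
    rw [← e2_om, e, e2_om])))

theorem om_add {b : PD m} {x y : II m} (h : IsD b x y) : om x.swap + (eD m).rc.wt (true, b) = om y :=
  e2_inj (by rw [e2_add, e2_om, e2_om, e2_wt_true, h.rd, wv_swap]; module)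

theorem pair_om {b : PD m} {x y : II m} (h : IsD b x y) (a : II m) :
    (eD m).rc.pair (om a) (true, b) = xv (wv a) x + xv (wv a) y := by
  have h1 := two_pair_true (om a) b
  rw [e2_om, dotProduct_smul, h.dot, smul_eq_mul] at h1
  omega

omit hm in
theorem isD_dp {i j : Fin m} (h : i < j) : IsD (dp i j h) (inl i) (inl j) := Or.inl rfl
omit hm in
theorem isD_dm {i j : Fin m} (h : i < j) : IsD (dm i j h) (inl i) (inr j) := Or.inl rfl

variable {R : RC (Fin m) (PD m)} {p : ℕ} {k L : Type} [Field k] [AddCommGroup L] [Module k L]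

theorem comm_pm (hR : R = (eD m).rc) (H : HW R p k L) {i j : Fin m} (h : i < j) :
    H.E (true, dp i j h) 1 * H.E (true, dm i j h) 1 = H.E (true, dm i j h) 1 * H.E (true, dp i j h) 1 := by
  subst hR
  have e : (eD m).E ((eD m).rc.vec (true, dp i j h) + (eD m).rc.vec (true, dm i j h)) = wv (inl i) + wv (inl i) := by
    rw [Euc.E_add, Euc.E_vec, Euc.E_vec]
    show rd _ + rd _ = Pi.single i 1 + Pi.single i 1
    rw [rd_dp, rd_dm]; abel
  refine H.br0 _ _ (fun h0 => ?_) fun h0 => ?_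
  · rw [h0, Euc.E_zero] at e
    have := congrFun e i
    simp [wv] at this
  · obtain ⟨a, b, h1, h2, h3⟩ := (isRt_D _).1 h0
    rcases pair_eq h2 (h3.symm.trans e) with ⟨rfl, rfl⟩ | ⟨rfl, rfl⟩ <;> exact h1 rfl

/-- the natural module -/
structure NatM (H : HW R p k L) : Prop where
  hR : R = (eD m).rc
  min : H.Min
  d : H.d = 2 * m
  wt : ∀ μ, H.IsWt μ ↔ ∃ a, e2 μ = (2 : ℤ) • wv a

/-- the operators `x e_(ε_i + ε_m) + y e_(ε_i - ε_m)` -/
def UU (H : HW R p k L) (i : Fin m) (h : i < lst m) (x y : k) : Module.End k L :=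
  x • H.E (true, dp i (lst m) h) 1 + y • H.E (true, dm i (lst m) h) 1

theorem UU_apply (H : HW R p k L) (i : Fin m) (h : i < lst m) (x y : k) (v : L) :
    UU H i h x y v = x • H.E (true, dp i (lst m) h) 1 v + y • H.E (true, dm i (lst m) h) 1 v := rfl

namespace NatM

variable {H : HW R p k L} (h : NatM H)
include h

theorem isWt (a : II m) : H.IsWt (om a) := (h.wt _).2 ⟨a, e2_om a⟩

theorem ex (a : II m) : ∃ v ∈ H.w (om a), v ≠ 0 := H.isWt_iff.1 (h.isWt a)

theorem E_w {b : PD m} {x y : II m} (hb : IsD b x y) {v : L} (hv : v ∈ H.w (om x.swap)) :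
    H.E (true, b) 1 v ∈ H.w (om y) := by
  obtain rfl := h.hR
  rw [← om_add hb]; exact H.E1_w _ hv

theorem E_zero {b : PD m} {x y a : II m} (hb : IsD b x y) (h1 : x ≠ a.swap) (h2 : y ≠ a.swap) {v : L}
    (hv : v ∈ H.w (om a)) : H.E (true, b) 1 v = 0 := by
  obtain rfl := h.hR
  refine (h.min.ext (h.isWt a)).E_eq_zero ?_ Nat.one_pos hv
  rw [pair_om hb, xv_wv, xv_wv, if_neg h1, if_neg h2]
  split_ifs <;> omega

theorem E_inj {b : PD m} {x y : II m} (hb : IsD b x y) {v : L} (hv : v ∈ H.w (om x.swap)) (h0 : H.E (true, b) 1 v = 0) :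
    v = 0 := by
  obtain rfl := h.hR
  refine h.min.x.ext (h.min.ext (h.isWt x.swap)) ?_ hv h0
  rw [pair_om hb, xv_wv, xv_wv, if_neg (swap_ne x).symm, swap_swap, if_pos rfl, if_neg hb.ne, if_neg hb.ne'.symm]
  omega

theorem line {a : II m} {u v : L} (hu : u ∈ H.w (om a)) (hv : v ∈ H.w (om a)) (h0 : u ≠ 0) : ∃ c : k, v = c • u := by
  obtain ⟨c, hc⟩ := (finrank_eq_one_iff_of_nonzero' (⟨u, hu⟩ : H.w (om a)) fun e => h0 (congrArg Subtype.val e)).1
    (h.min.m_eq (h.isWt a)) ⟨v, hv⟩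
  exact ⟨c, (congrArg Subtype.val hc).symm⟩

variable {i : Fin m} (hi : i < lst m)

theorem p_w {v : L} (hv : v ∈ H.w (om (inr i))) : H.E (true, dp i (lst m) hi) 1 v ∈ H.w (om (inl (lst m))) :=
  h.E_w (isD_dp hi) hv
theorem m_w {v : L} (hv : v ∈ H.w (om (inr i))) : H.E (true, dm i (lst m) hi) 1 v ∈ H.w (om (inr (lst m))) :=
  h.E_w (isD_dm hi) hv
theorem p_w' {v : L} (hv : v ∈ H.w (om (inr (lst m)))) : H.E (true, dp i (lst m) hi) 1 v ∈ H.w (om (inl i)) :=
  h.E_w (isD_dp hi).symm hv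
theorem m_w' {v : L} (hv : v ∈ H.w (om (inl (lst m)))) : H.E (true, dm i (lst m) hi) 1 v ∈ H.w (om (inl i)) :=
  h.E_w (isD_dm hi).symm hv
theorem p_inl {j : Fin m} {v : L} (hv : v ∈ H.w (om (inl j))) : H.E (true, dp i (lst m) hi) 1 v = 0 :=
  h.E_zero (isD_dp hi) inl_ne_inr inl_ne_inr hv
theorem m_inl {j : Fin m} (hj : j < lst m) {v : L} (hv : v ∈ H.w (om (inl j))) : H.E (true, dm i (lst m) hi) 1 v = 0 :=
  h.E_zero (isD_dm hi) inl_ne_inr (fun e => hj.ne' (inr_injective e)) hv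
theorem p_inr {j : Fin m} (hj : j < lst m) (hij : i ≠ j) {v : L} (hv : v ∈ H.w (om (inr j))) :
    H.E (true, dp i (lst m) hi) 1 v = 0 :=
  h.E_zero (isD_dp hi) (fun e => hij (inl_injective e)) (fun e => hj.ne' (inl_injective e)) hv
theorem m_inr {j : Fin m} (hij : i ≠ j) {v : L} (hv : v ∈ H.w (om (inr j))) : H.E (true, dm i (lst m) hi) 1 v = 0 :=
  h.E_zero (isD_dm hi) (fun e => hij (inl_injective e)) inr_ne_inl hv

theorem UU_inr {j : Fin m} (hj : j < lst m) (hij : i ≠ j) (x y : k) {v : L} (hv : v ∈ H.w (om (inr j))) :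
    UU H i hi x y v = 0 := by
  rw [UU_apply, h.p_inr hi hj hij hv, h.m_inr hi hij hv, smul_zero, smul_zero, add_zero]

theorem UU_sq (x y : k) {v : L} (hv : v ∈ H.w (om (inr i))) : UU H i hi x y (UU H i hi x y v) =
    (2 * x * y) • H.E (true, dp i (lst m) hi) 1 (H.E (true, dm i (lst m) hi) 1 v) := by
  have c : H.E (true, dm i (lst m) hi) 1 (H.E (true, dp i (lst m) hi) 1 v) =
      H.E (true, dp i (lst m) hi) 1 (H.E (true, dm i (lst m) hi) 1 v) := (LinearMap.congr_fun (comm_pm h.hR H hi) v).symm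
  simp only [UU_apply, map_add, map_smul, h.p_inl hi (h.p_w hi hv), h.m_inr hi hi.ne (h.m_w hi hv), c]
  module

/-- three commuting operators: impossible in odd characteristic -/
theorem three (h2 : (2 : k) ≠ 0) {j o : Fin m} (hj : j < lst m) (ho : o < lst m) (hij : i ≠ j) (hio : i ≠ o) (hjo : j ≠ o)
    {x y x' y' x'' y'' : k} (hx : x ≠ 0) (hx' : x' ≠ 0) (hy' : y' ≠ 0) (hx'' : x'' ≠ 0)
    (c1 : Commute (UU H i hi x y) (UU H j hj x' y')) (c2 : Commute (UU H i hi x y) (UU H o ho x'' y''))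
    (c3 : Commute (UU H j hj x' y') (UU H o ho x'' y'')) : False := by
  obtain ⟨v, hv, v0⟩ := h.ex (inr j)
  obtain ⟨u, hu, u0⟩ := h.ex (inr o)
  have a1 : UU H i hi x y (UU H j hj x' y' v) = 0 :=
    (LinearMap.congr_fun c1.eq v).trans (by rw [Module.End.mul_apply, h.UU_inr hi hj hij x y hv, map_zero])
  have a2 : UU H i hi x y (UU H o ho x'' y'' u) = 0 :=
    (LinearMap.congr_fun c2.eq u).trans (by rw [Module.End.mul_apply, h.UU_inr hi ho hio x y hu, map_zero])
  have a3 : UU H j hj x' y' (UU H o ho x'' y'' u) = 0 :=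
    (LinearMap.congr_fun c3.eq u).trans (by rw [Module.End.mul_apply, h.UU_inr hj ho hjo x' y' hu, map_zero])
  obtain ⟨c, hc⟩ := h.line (Submodule.smul_mem _ x'' (h.p_w ho hu)) (Submodule.smul_mem _ x' (h.p_w hj hv))
    (smul_ne_zero hx'' fun e => u0 (h.E_inj (isD_dp ho) hu e))
  have a4 : UU H j hj x' y' v - c • UU H o ho x'' y'' u ∈ H.w (om (inr (lst m))) := by
    rw [UU_apply, UU_apply, hc, smul_add, add_sub_add_left_eq_sub]
    exact Submodule.sub_mem _ (Submodule.smul_mem _ _ (h.m_w hj hv))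
      (Submodule.smul_mem _ _ (Submodule.smul_mem _ _ (h.m_w ho hu)))
  have a5 : UU H i hi x y (UU H j hj x' y' v - c • UU H o ho x'' y'' u) = 0 := by
    rw [map_sub, map_smul, a1, a2, smul_zero, sub_zero]
  rw [UU_apply, h.m_inr hi hi.ne a4, smul_zero, add_zero, smul_eq_zero] at a5
  have a6 := sub_eq_zero.1 (h.E_inj (isD_dp hi).symm a4 (a5.resolve_left hx))
  have a7 := h.UU_sq hj x' y' hv
  rw [show UU H j hj x' y' (UU H j hj x' y' v) = 0 by rw [a6, map_smul, a3, smul_zero], eq_comm, smul_eq_zero] at a7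
  rcases a7 with a7 | a7
  · exact mul_ne_zero (mul_ne_zero h2 hx') hy' a7
  · exact v0 (h.E_inj (isD_dm hj) hv (h.E_inj (isD_dp hj).symm (h.m_w hj hv) a7))

end NatM

/-- vectors with a triangular pattern of weights -/
theorem card_le_finrank {ι Φ : Type} [Fintype ι] [DecidableEq ι] [DecidableEq Φ] {R : RC ι Φ} (H : HW R p k L)
    {N : Submodule k L} {α : Type} [Fintype α] (μ : α → ι → ℤ) (u : α → L) (hu : ∀ a, u a ∈ N)
    (h1 : ∀ a, H.pr (μ a) (u a) ≠ 0) (h2 : ∀ a b, b ≠ a → H.pr (μ a) (u b) = 0) : Fintype.card α ≤ finrank k N := by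
  classical
  have := H.fd
  have h3 : LinearIndependent k fun a => (⟨u a, hu a⟩ : N) := Fintype.linearIndependent_iff.2 fun c hc a => by
    have h4 := congrArg (fun v : N => H.pr (μ a) v.1) hc
    simp only [Submodule.coe_sum, Submodule.coe_smul, map_sum, map_smul, Submodule.coe_zero, map_zero] at h4
    rw [sum_eq_single a (fun b _ hb => by rw [h2 a b hb, smul_zero]) (by simp only [_root_.Finset.mem_univ, _root_.not_true_eq_false, _root_.smul_eq_zero, _root_.IsEmpty.forall_iff])] at h4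
    exact (smul_eq_zero.1 h4).resolve_right (h1 a)
  exact h3.fintype_card_le_finrank

section rep

variable {G : Type} [Group G] {D : RDat p (Fin m) (PD m) k G} {H : HW D.R p k L} (r : H.Rep D)

omit hm in
theorem rho_min (h : H.Min) (b : PD m) (t : k) (v : L) : r.ρ (D.z b t) v = v + t • H.E (true, b) 1 v := by
  rw [r.ρ_z, finsum_eq_sum_of_support_subset _ (s := range 2) fun n hn => by
    by_contra e
    exact hn (by show _ • _ = 0; rw [h.E_eq_zero _ (by rw [mem_coe, mem_range] at e; omega), smul_zero])]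
  simp only [sum_range_succ, H.E_zero, _root_.Finset.range_one, _root_.Finset.sum_singleton, _root_.pow_zero, _root_.one_smul, _root_.pow_one, _root_.LinearMap.add_apply, _root_.Module.End.one_apply, _root_.LinearMap.smul_apply]

theorem rho_yy (h : H.Min) (i : Fin m) (hi : i < lst m) (s : k) (v : L) : r.ρ (yy D i hi s) v =
    v + s • UU H i hi 1 1 v + (s * s) • H.E (true, dp i (lst m) hi) 1 (H.E (true, dm i (lst m) hi) 1 v) := by
  rw [yy, map_mul, Module.End.mul_apply, rho_min r h, rho_min r h, map_add, map_smul, UU_apply]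
  module

/-- the Siegel radical of the symplectic subgroup has codimension at most `m` on the natural module -/
theorem cod_le (h : NatM H) (h2 : (2 : k) = 0) (hc : ∀ i j h h' s t, Commute (yy D i h s) (yy D j h' t)) :
    cod r.ρ (Subgroup.closure {g | (∃ b ∈ On m, ∃ t, g = D.z b t) ∨ ∃ i h s, g = yy D i h s}) ≤ m := by
  have h0 : fst m < lst m := by have := hm.out; show 0 < m - 1; omega
  obtain ⟨v, hv, v0⟩ := h.ex (inr (fst m))
  choose u hu u0 using fun i : Fin m => h.ex (inl i)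
  have ha := h.p_w h0 hv
  have hb := h.m_w h0 hv
  have hw : UU H (fst m) h0 1 1 v = H.E (true, dp _ _ h0) 1 v + H.E (true, dm _ _ h0) 1 v := by
    rw [UU_apply, one_smul, one_smul]
  have on : ∀ b ∈ On m, ∀ a : II m, ps a ≤ m → ∀ x ∈ H.w (om a), H.E (true, b) 1 x = 0 := fun b hb a ha x hx => by
    have h3 := (mem_filter.1 hb).2
    have h4 := b.2.1
    refine h.E_zero (IsD.self b) ?_ ?_ hx <;> rw [Ne, eq_swap_iff] <;> omega
  have pm : ∀ i hi, H.E (true, dp i (lst m) hi) 1 (H.E (true, dm i (lst m) hi) 1 (UU H (fst m) h0 1 1 v)) = 0 :=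
    fun i hi => by rw [hw, map_add, h.m_inr hi hi.ne hb, add_zero, h.p_inl hi (h.m_w' hi ha)]
  have fix : ∀ x, (∀ b ∈ On m, H.E (true, b) 1 x = 0) → (∀ i hi, UU H i hi 1 1 x = 0) →
      (∀ i hi, H.E (true, dp i (lst m) hi) 1 (H.E (true, dm i (lst m) hi) 1 x) = 0) →
      x ∈ fx r.ρ (Subgroup.closure {g | (∃ b ∈ On m, ∃ t, g = D.z b t) ∨ ∃ i h s, g = yy D i h s}) := by
    intro x h3 h4 h5
    rw [mem_fx_closure]
    rintro _ (⟨b, hb, t, rfl⟩ | ⟨i, hi, s, rfl⟩)
    · rw [rho_min r h.min, h3 b hb, smul_zero, add_zero]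
    · rw [rho_yy r h.min, h4, h5, smul_zero, smul_zero, add_zero, add_zero]
  have f1 : ∀ j, j < lst m → u j ∈ _ := fun j hj => fix (u j) (fun b hb => on b hb (inl j) j.2.le _ (hu j))
    (fun i hi => by rw [UU_apply, h.p_inl hi (hu j), h.m_inl hi hj (hu j), smul_zero, add_zero])
    fun i hi => by rw [h.m_inl hi hj (hu j), map_zero]
  have f2 := fix (UU H (fst m) h0 1 1 v) (fun b hb' => by
      have := hm.out
      rw [hw, map_add, on b hb' (inl (lst m)) (lst m).2.le _ ha,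
        on b hb' (inr (lst m)) (by rw [ps_inr, lst_val]; omega) _ hb, add_zero])
    (fun i hi => by
      by_cases e : i = fst m
      · subst e
        rw [h.UU_sq h0 1 1 hv, h2, zero_mul, zero_mul, zero_smul]
      have hz := h.p_w' h0 hb
      have c := congrArg (fun g => r.ρ g v) (hc i (fst m) hi h0 1 1).eq
      simp only [map_mul, Module.End.mul_apply, rho_yy r h.min, one_smul, mul_one, map_add, h.UU_inr hi h0 e 1 1 hv,
        h.m_inr hi e hv, map_zero, add_zero, pm i hi, h.m_inl hi h0 hz,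
        show UU H i hi 1 1 (H.E (true, dp _ _ h0) 1 (H.E (true, dm _ _ h0) 1 v)) = 0 by
          rw [UU_apply, h.p_inl hi hz, h.m_inl hi h0 hz, smul_zero, add_zero], zero_add] at c
      exact add_eq_left.1 c) pm
  have lt : ∀ j : Fin m, j ≠ lst m → j < lst m := fun j hj =>
    lt_of_le_of_ne (Fin.le_def.2 (by have := j.2; rw [lst_val]; omega)) hj
  have h3 := card_le_finrank H (fun j : Fin m => om (inl j)) (fun j => if j = lst m then UU H (fst m) h0 1 1 v else u j)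
    (fun j => by
      split_ifs with e
      exacts [f2, f1 j (lt j e)])
    (fun j => by
      split_ifs with e
      · rw [e, hw, map_add, H.pr_of_mem ha, H.pr_of_ne hb (om_ne inr_ne_inl), add_zero]
        exact fun e => v0 (h.E_inj (isD_dp h0) hv e)
      · rw [H.pr_of_mem (hu j)]; exact u0 j)
    fun i j hij => by
      split_ifs with e
      · rw [hw, map_add, H.pr_of_ne ha (om_ne fun e' => hij (e.trans (inl_injective e'))),
          H.pr_of_ne hb (om_ne inr_ne_inl), add_zero]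
      · exact H.pr_of_ne (hu j) (om_ne fun e' => hij (inl_injective e'))
  have h4 := h.d
  rw [Fintype.card_fin] at h3
  unfold cod; unfold HW.d at h4
  omega

end rep

end Cfsg.Agent.TwoF.DC.TBD.DD
end

-- part: TwoF/DC/TBD/DDFlex
section
/-!
# TwoF, defining characteristic, type D, `boxD` (2): `m - 1` natural modules of the twisted group (helper77)
-/

set_option autoImplicit false
set_option linter.unusedSectionVars false

namespace Cfsg.Agent.TwoF.DC.TBD.DD

open Finset Module Matrix Sum Cfsg.Agent.TwoF.DC.TC Cfsg.Agent.TwoF.Gen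

section gen

variable {ι Φ : Type} [Fintype ι] [DecidableEq ι] [Fintype Φ] [DecidableEq Φ] {R : RC ι Φ} {p : ℕ} {k L : Type}
  [Field k] [AddCommGroup L] [Module k L] (H : HW R p k L)

theorem not_nz_of_commute (hE : ∀ x, H.E x 1 ≠ 0) {x y : Bool × Φ} (h : Commute (H.E x 1) (H.E y 1)) : ¬ R.NZ p x y :=
  fun h1 => by
    obtain ⟨z, hz⟩ := h1.1
    obtain ⟨N, h2, h3⟩ := H.br _ _ z hz
    rw [h.eq, sub_self, eq_comm, smul_eq_zero] at h2
    exact h2.elim (h3 h1) (hE z)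

/-- degeneration of a commuting family to root operators -/
theorem deg (hE : ∀ x, H.E x 1 ≠ 0) (σ' f : Φ → Φ) (φ : (ι → ℤ) →+ ℤ) (S O : Finset Φ) (c : Φ → k) (hc : ∀ o ∈ O, c o ≠ 0)
    (hf : ∀ o ∈ O, (f o = o ∧ φ (R.vec (true, o)) < φ (R.vec (true, σ' o))) ∨
      (f o = σ' o ∧ φ (R.vec (true, σ' o)) < φ (R.vec (true, o))))
    (hX : ∀ x ∈ {x | (∃ b ∈ S, x = H.E (true, b) 1) ∨ ∃ o ∈ O, x = H.E (true, o) 1 + c o • H.E (true, σ' o) 1},
      ∀ y ∈ {x | (∃ b ∈ S, x = H.E (true, b) 1) ∨ ∃ o ∈ O, x = H.E (true, o) 1 + c o • H.E (true, σ' o) 1}, Commute x y) :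
    R.Ab p (S ∪ O.image f) ∧ finrank k ↥(H.kerL S ⊓ ⨅ o ∈ O, LinearMap.ker (H.E (true, o) 1 + c o • H.E (true, σ' o) 1)) ≤
      finrank k (H.kerL (S ∪ O.image f)) := by
  have h2 : ∀ b ∈ S ∪ O.image f, ∃ x : k, ∃ s, ∃ g ∈ {x | (∃ b ∈ S, x = H.E (true, b) 1) ∨
      ∃ o ∈ O, x = H.E (true, o) 1 + c o • H.E (true, σ' o) 1}, H.idm.Ld (H.lf φ) s (x • g) (H.E (true, b) 1) := by
    intro b hb
    rcases mem_union.1 hb with e | e
    · exact ⟨1, φ (R.vec (true, b)), H.E (true, b) 1, Or.inl ⟨b, e, rfl⟩, by rw [one_smul]; exact (H.hm_E1 _ _).ld⟩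
    obtain ⟨o, ho, rfl⟩ := mem_image.1 e
    rcases hf o ho with ⟨e1, e2⟩ | ⟨e1, e2⟩ <;> rw [e1]
    · exact ⟨1, φ (R.vec (true, o)), H.E (true, o) 1 + c o • H.E (true, σ' o) 1, Or.inr ⟨o, ho, rfl⟩, by
        rw [one_smul]; exact (H.hm_E1 _ _).ld.add_ge (((H.hm_E1 _ _).smul _).ge.mono e2)⟩
    · refine ⟨(c o)⁻¹, φ (R.vec (true, σ' o)), H.E (true, o) 1 + c o • H.E (true, σ' o) 1, Or.inr ⟨o, ho, rfl⟩, ?_⟩
      rw [smul_add, smul_smul, inv_mul_cancel₀ (hc o ho), one_smul, add_comm]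
      exact (H.hm_E1 _ _).ld.add_ge (((H.hm_E1 _ _).smul _).ge.mono e2)
  refine ⟨fun b hb b' hb' => ?_, ?_⟩
  · obtain ⟨x, s, g, a1, a2⟩ := h2 b hb
    obtain ⟨x', s', g', b1, b2⟩ := h2 b' hb'
    exact not_nz_of_commute H hE (a2.commute b2 (((hX g a1 g' b1).smul_left x).smul_right x'))
  · have := H.fd
    refine (H.finrank_ker_le (H.lf φ) (A := ↑(S ∪ O.image f)) (g := fun b => H.E (true, b) 1) fun b hb => ?_).trans
      (Submodule.finrank_mono fun v hv => H.mem_kerL.2 fun b hb =>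
        (Submodule.mem_iInf _).1 ((Submodule.mem_iInf _).1 hv b) (mem_coe.2 hb))
    obtain ⟨x, s, g, a1, a2⟩ := h2 b hb
    refine ⟨s, _, a2, fun v hv => ?_⟩
    rw [LinearMap.mem_ker, LinearMap.smul_apply]
    rcases a1 with ⟨b', hb', rfl⟩ | ⟨o, ho, rfl⟩
    · rw [H.mem_kerL.1 hv.1 b' hb', smul_zero]
    · rw [show (H.E (true, o) 1 + c o • H.E (true, σ' o) 1) v = 0 from
        (Submodule.mem_iInf _).1 ((Submodule.mem_iInf _).1 hv.2 o) ho, smul_zero]

omit [Fintype Φ] in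
theorem card_deg {σ' f : Φ → Φ} (hσ : ∀ b, σ' (σ' b) = b) {S O : Finset Φ} (h1 : ∀ b ∈ S, σ' b ∈ S)
    (h2 : ∀ o ∈ O, o ∉ S ∧ σ' o ∉ O) (hf : ∀ o ∈ O, f o = o ∨ f o = σ' o) : (S ∪ O.image f).card = S.card + O.card := by
  rw [card_union_of_disjoint, card_image_of_injOn]
  · intro o ho o' ho' e
    rcases hf o ho with e1 | e1 <;> rcases hf o' ho' with e2 | e2 <;> rw [e1, e2] at e
    · exact e
    · exact ((h2 o' ho').2 (e ▸ ho)).elim
    · exact ((h2 o ho).2 (e ▸ ho')).elim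
    · rw [← hσ o, e, hσ]
  · refine disjoint_left.2 fun b hb hb' => ?_
    obtain ⟨o, ho, rfl⟩ := mem_image.1 hb'
    rcases hf o ho with e | e <;> rw [e] at hb
    · exact (h2 o ho).1 hb
    · exact (h2 o ho).1 (hσ o ▸ h1 _ hb)

end gen

variable {m : ℕ} [hm : Fact (2 ≤ m)]

theorem gP_dp {i : Fin m} (h : i < lst m) : gP m (dp i (lst m) h) = dm i (lst m) h := by
  have := hm.out
  have h1 := Fin.lt_def.1 h
  rw [lst_val] at h1
  refine PD.ext' ?_ ?_
  · show ps (gI (inl i)) = ps (inl i)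
    rw [ps_gI, ps_inl]; split_ifs <;> omega
  · show ps (gI (inl (lst m))) = ps (inr (lst m))
    rw [ps_gI, ps_inl, ps_inr, lst_val]; split_ifs <;> omega

theorem gP_dm {i : Fin m} (h : i < lst m) : gP m (dm i (lst m) h) = dp i (lst m) h := by rw [← gP_dp, gP_gP]

theorem pm_of_ne {o : PD m} (h : gP m o ≠ o) : ∃ i hi, o = dp i (lst m) hi ∨ o = dm i (lst m) hi := by
  have h1 : ps o.1.2 + 1 = m ∨ ps o.1.2 = m := by
    by_contra e
    have := o.lt
    refine h (PD.ext' ?_ ?_)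
    · show ps (gI o.1.1) = _
      rw [ps_gI]; split_ifs <;> omega
    · show ps (gI o.1.2) = _
      rw [ps_gI]; split_ifs <;> omega
  rcases dp_or_dm o with ⟨i, j, hij, rfl⟩ | ⟨i, j, hij, rfl⟩ <;> have := j.2
  · obtain rfl : j = lst m := Fin.ext (by rw [lst_val]; change j.1 + 1 = m ∨ j.1 = m at h1; omega)
    exact ⟨i, hij, Or.inl rfl⟩
  · obtain rfl : j = lst m := Fin.ext (by
      rw [lst_val]; change 2 * m - 1 - j.1 + 1 = m ∨ 2 * m - 1 - j.1 = m at h1; omega)
    exact ⟨i, hij, Or.inr rfl⟩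

/-- the last coordinate -/
def lc (m : ℕ) [Fact (2 ≤ m)] : (Fin m → ℤ) →+ ℤ where
  toFun c := (eD m).E c (lst m)
  map_zero' := by rw [Euc.E_zero]; rfl
  map_add' c d := by rw [Euc.E_add]; rfl

theorem lc_lt {i : Fin m} (h : i < lst m) :
    lc m ((eD m).rc.vec (true, dm i (lst m) h)) < lc m ((eD m).rc.vec (true, dp i (lst m) h)) := by
  show (eD m).E _ _ < (eD m).E _ _
  rw [Euc.E_vec, Euc.E_vec]
  show rd _ _ < rd _ _
  rw [rd_dp, rd_dm, Pi.sub_apply, Pi.add_apply, Pi.single_eq_same]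
  omega

variable {p : ℕ} [Fact p.Prime] {k : Type} [Field k] [CharP k p]

theorem natM_of (hM : BoxMin) (h4 : 4 ≤ m) {R : RC (Fin m) (PD m)} (hR : R = (eD m).rc) {L : Type} [AddCommGroup L]
    [Module k L] {H : HW R p k L} (h : Nt H.lam) : NatM H ∧ ∀ S, H.cL S = (Ix S).card := by
  subst hR
  obtain ⟨h1, h2, h3, h5⟩ := ((hM p m h4).2.2 k L H).1 h
  exact ⟨⟨rfl, h1, h2, h3⟩, fun S => (h5 S).1⟩

theorem E_ne (h4 : 4 ≤ m) {R : RC (Fin m) (PD m)} (hR : R = (eD m).rc) {L : Type} [AddCommGroup L]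
    [Module k L] (H : HW R p k L) (x : Bool × PD m) : H.E x 1 ≠ 0 := by
  subst hR
  exact (xD H).faith (connD (by omega)) x

theorem NatM.cubic {R : RC (Fin m) (PD m)} {L : Type} [AddCommGroup L] [Module k L] {H : HW R p k L} (h : NatM H)
    {S : Finset (PD m)} (hS : ∀ b ∈ S, ps b.1.2 ≤ m) : ∀ a ∈ S, ∀ b ∈ S, ∀ c ∈ S, ∀ l n o, 0 < l → 0 < n → 0 < o →
      H.E (true, a) l * H.E (true, b) n * H.E (true, c) o = 0 := by
  obtain rfl := h.hR
  have hx : ∀ a : II m, xv (fun i : Fin m => if i.1 + 1 < m then (1 : ℤ) else 0) a =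
      if ps a + 1 < m then 1 else if ps a ≤ m then 0 else -1 := by
    rintro (i | i) <;> have := i.2 <;> simp only [xv, ps] <;> split_ifs <;> omega
  refine cubic_D H S (fun i => if i.1 + 1 < m then 1 else 0) (t := 1) (r := 2) (fun b hb => ?_) (by omega) fun μ hμ => ?_
  · have := hS b hb
    rw [dotProduct_comm, rd_dot, hx, hx, if_pos b.lt]
    split_ifs <;> omega
  · obtain ⟨a, ha⟩ := (h.wt μ).1 hμ
    rw [ha, dotProduct_smul, dotProduct_comm, wv_dot, hx, smul_eq_mul, abs_le]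
    split_ifs <;> omega

variable {G : Type} [Group G] {D : RDat p (Fin m) (PD m) k G}

/-- characteristic two: the Siegel radical of `Sp_(2m-2)(q)` -/
theorem goodT (hp : p = 2) (P : Tws D) (hS : SubD P) {σ : Equiv.Perm (Fin m)} (F : Fam D σ) (hn : ∀ j, NatM (F.H j))
    (hd : ∀ j, F.dbl j = false) (hJ : Fintype.card F.J = m - 1) : F.GoodT P.TT.subtype P.f := by
  obtain ⟨hc, B, b1, b2, b3⟩ := hS
  have h0 := hm.out
  have two : (2 : k) = 0 := by subst hp; exact_mod_cast CharP.cast_eq_zero k 2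
  refine ⟨B, b1, ?_, fun j _ => ?_, fun j hj => (by rw [hd j] at hj; cases hj), ?_⟩
  · rintro rfl
    have := Nat.one_lt_pow (n := m * (m - 1)) (mul_ne_zero (by omega) (by omega))
      (Nat.one_lt_pow P.f_pos.ne' (Fact.out : p.Prime).one_lt)
    rw [Subgroup.card_bot] at b2; omega
  · have h1 := (F.rep j).cub ((hn j).cubic (S := univ.filter fun b => ps b.1.2 ≤ m) fun b hb => (mem_filter.1 hb).2)
    have h2 : B.map P.TT.subtype ≤ Subgroup.closure {g | ∃ b ∈ univ.filter fun b : PD m => ps b.1.2 ≤ m, ∃ t,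
        g = D.z b t} := b3.trans ((Subgroup.closure_le _).2 (by
      rintro _ (⟨b, hb, t, rfl⟩ | ⟨i, hi, s, rfl⟩)
      · exact Subgroup.subset_closure ⟨b, mem_filter.2 ⟨mem_univ _, by have := (mem_filter.1 hb).2; omega⟩, t, rfl⟩
      · exact mul_mem (Subgroup.subset_closure ⟨dp i _ hi, mem_filter.2 ⟨mem_univ _, (lst m).2.le⟩, s, rfl⟩)
          (Subgroup.subset_closure ⟨dm i _ hi, mem_filter.2 ⟨mem_univ _, show 2 * m - 1 - (m - 1) ≤ m by omega⟩, s, rfl⟩)))
    exact fun a ha b hb c hc => h1 a (h2 ha) b (h2 hb) c (h2 hc)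
  · have h1 : F.valB (B.map P.TT.subtype) ≤ m * (m - 1) * 2 := (sum_le_card_nsmul _ _ (2 * m) fun j _ => by
      have := (F.H j).fd
      have := (cod_mono (ρ := (F.rep j).ρ) b3).trans (cod_le (F.rep j) (hn j) two hc)
      rw [hd j, if_neg (by simp)]; omega).trans (by rw [card_univ, smul_eq_mul, hJ]; exact le_of_eq (by ring))
    refine (Nat.pow_le_pow_right (pow_pos (Fact.out : p.Prime).pos _) h1).trans ?_
    rw [pow_mul _ (m * (m - 1)), show 4 = 2 * 2 from rfl, pow_mul _ 2 2]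
    exact Nat.pow_le_pow_left b2 _

/-- odd characteristic: no offender -/
theorem no_flex (hM : BoxMin) (h4 : 4 ≤ m) (hR : D.R = (eD m).rc) (hp : p ≠ 2) {σ : Equiv.Perm (Fin m)} (F : Fam D σ)
    (hn : ∀ j, Nt (F.H j).lam) (hJ : Fintype.card F.J = m - 1) : ¬ F.Flex (gP m) := by
  rintro ⟨S, O, c, h1, h2, h3, h5, h6⟩
  have two : (2 : k) ≠ 0 := fun e => hp ((Nat.prime_dvd_prime_iff_eq Fact.out Nat.prime_two).1
    ((CharP.cast_eq_zero_iff k p 2).1 (by exact_mod_cast e)))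
  obtain ⟨j₀⟩ := F.neJ
  have a1 : ∀ o ∈ O, ∃ i hi, (o = dp i (lst m) hi ∨ o = dm i (lst m) hi) ∧ ∃ x y : k, x ≠ 0 ∧ y ≠ 0 ∧
      (F.H j₀).E (true, o) 1 + c o • (F.H j₀).E (true, gP m o) 1 = UU (F.H j₀) i hi x y := fun o ho => by
    obtain ⟨i, hi, e | e⟩ := pm_of_ne (h2 o ho).2.1
    · exact ⟨i, hi, Or.inl e, 1, c o, one_ne_zero, (h2 o ho).2.2.2, by rw [UU, one_smul, ← gP_dp, ← e]⟩
    · exact ⟨i, hi, Or.inr e, c o, 1, (h2 o ho).2.2.2, one_ne_zero, by rw [UU, one_smul, add_comm, ← gP_dm, ← e]⟩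
  have a2 : ∀ o ∈ O, ∀ o' ∈ O, o ≠ o' → ∀ i hi i' hi', (o = dp i (lst m) hi ∨ o = dm i (lst m) hi) →
      (o' = dp i' (lst m) hi' ∨ o' = dm i' (lst m) hi') → i ≠ i' := by
    rintro o ho o' ho' e i hi i' hi' e1 e2 rfl
    rcases e1 with rfl | rfl <;> rcases e2 with rfl | rfl
    · exact e rfl
    · exact (h2 _ ho).2.2.1 (gP_dp hi ▸ ho')
    · exact (h2 _ ho).2.2.1 (gP_dm hi ▸ ho')
    · exact e rfl
  have a3 : O.card ≤ 2 := by
    by_contra e
    obtain ⟨o1, o2, o3, m1, m2, m3, n1, n2, n3⟩ := two_lt_card_iff.1 (not_le.1 e)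
    obtain ⟨i1, l1, e1, x1, y1, p1, q1, r1⟩ := a1 o1 m1
    obtain ⟨i2, l2, e2, x2, y2, p2, q2, r2⟩ := a1 o2 m2
    obtain ⟨i3, l3, e3, x3, y3, p3, q3, r3⟩ := a1 o3 m3
    exact (natM_of hM h4 hR (hn j₀)).1.three l1 two l2 l3 (a2 _ m1 _ m2 n1 _ _ _ _ e1 e2) (a2 _ m1 _ m3 n2 _ _ _ _ e1 e3)
      (a2 _ m2 _ m3 n3 _ _ _ _ e2 e3) p1 p2 q2 p3
      (h5 j₀ _ (Or.inr ⟨_, m1, r1.symm⟩) _ (Or.inr ⟨_, m2, r2.symm⟩))
      (h5 j₀ _ (Or.inr ⟨_, m1, r1.symm⟩) _ (Or.inr ⟨_, m3, r3.symm⟩))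
      (h5 j₀ _ (Or.inr ⟨_, m2, r2.symm⟩) _ (Or.inr ⟨_, m3, r3.symm⟩))
  let f : PD m → PD m := fun o => if ps o.1.2 = m then o else gP m o
  have hf : ∀ o ∈ O, (f o = o ∧ lc m (D.R.vec (true, o)) < lc m (D.R.vec (true, gP m o))) ∨
      (f o = gP m o ∧ lc m (D.R.vec (true, gP m o)) < lc m (D.R.vec (true, o))) := fun o ho => by
    rw [hR]
    obtain ⟨i, hi, rfl | rfl⟩ := pm_of_ne (h2 o ho).2.1
    · exact Or.inr ⟨if_neg (show m - 1 ≠ m by omega), by rw [gP_dp]; exact lc_lt hi⟩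
    · exact Or.inl ⟨if_pos (show 2 * m - 1 - (m - 1) = m by omega), by rw [gP_dm]; exact lc_lt hi⟩
  have a4 := fun j => deg (F.H j) (E_ne h4 hR _) (gP m) f (lc m) S O c (fun o ho => (h2 o ho).2.2.2) hf (h5 j)
  have a5 := card_deg gP_gP h1 (fun o ho => ⟨(h2 o ho).1, (h2 o ho).2.2.1⟩) fun o ho => (hf o ho).imp And.left And.left
  have a6 := card_nsmul_le_sum univ _ (2 * (Ix (S ∪ O.image f)).card) fun j _ => show _ ≤ 2 * ((F.H j).d - _) by
    have b1 := (a4 j).2
    have b2 := (F.H j).cL_add (S ∪ O.image f)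
    rw [(natM_of hM h4 hR (hn j)).2] at b2
    refine Nat.mul_le_mul_left 2 (le_trans ?_ (Nat.sub_le_sub_left b1 _))
    omega
  have a7 := a6.trans h6
  rw [card_univ, hJ, smul_eq_mul, ← a5] at a7
  obtain ⟨a, b1, b2, b3⟩ := ((hM p m h4).2.1 _ (hR ▸ (a4 j₀).1)).2.2.2 (by
    have := card_union_le S O
    have := card_pos.2 h3
    exact card_pos.1 (by omega)) (by linarith only [a7])
  have a8 : ((S ∪ O.image f).filter fun b => b.1.2 = a) ⊆ O.image f := fun b hb => by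
    obtain ⟨c1, c2⟩ := mem_filter.1 hb
    refine (mem_union.1 c1).resolve_left fun e => b2 (mem_biUnion.2 ⟨_, mem_union_left _ (h1 b e), ?_⟩)
    rw [gP_val, c2, mem_insert, mem_singleton]
    right
    rcases b1 with rfl | rfl
    · exact (if_pos (Or.inl (show m - 1 + 1 = m by omega))).symm
    · exact (if_pos (Or.inr (show 2 * m - 1 - (m - 1) = m by omega))).symm
  have a9 := (card_le_card a8).trans card_image_le
  omega

end Cfsg.Agent.TwoF.DC.TBD.DD
end

-- part: TwoF/DC/TBD/DDMain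
section
/-!
# TwoF, defining characteristic, type D, `boxD` (3): `BG`, `CTF`, `CTG`, the main theorem (helper77)
-/

set_option autoImplicit false
set_option linter.unusedSectionVars false

namespace Cfsg.Agent.TwoF.DC.TBD

open Finset Module Matrix Sum Cfsg.Agent.TwoF.DC.TC

namespace DD

theorem pow_lb {m : ℕ} (h : 6 ≤ m) : m * (m - 1) + 2 ≤ 2 ^ (m - 1) := by
  induction m, h using Nat.le_induction with
  | base => decide
  | succ n hn ih =>
    obtain ⟨e, rfl⟩ : ∃ e, n = e + 1 := ⟨n - 1, by omega⟩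
    rw [Nat.add_sub_cancel] at ih ⊢
    rw [pow_succ]
    nlinarith

theorem two_le_pow {m : ℕ} (h : 4 ≤ m) : 2 * m ≤ 2 ^ (m - 1) := by
  induction m, h using Nat.le_induction with
  | base => decide
  | succ n hn ih =>
    obtain ⟨e, rfl⟩ : ∃ e, n = e + 1 := ⟨n - 1, by omega⟩
    rw [Nat.add_sub_cancel] at ih ⊢
    rw [pow_succ]
    omega

theorem two_le_of {s c : ℕ} (h : 2 * s ≤ c * (c - 1)) (h0 : s ≠ 0) : 2 ≤ c := by
  rcases c with _ | _ | c <;> omega

theorem ctg_arith {m s c a b X : ℕ} (h4 : 4 ≤ m) (s1 : 2 * s ≤ m * (m - 1)) (s2 : 2 * s ≤ (m - 1) * c)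
    (s3 : 2 * s ≤ c * (c - 1)) (ha : 1 ≤ a) (h1 : a * (2 * c) + (b * 2 ^ (m - 1) + X) ≤ 4 * s + 4)
    (h2 : a * 2 + b * 2 ^ (m - 1) ≤ 4 * s + 4) (h3 : X + b ≤ b * 2 ^ (m - 1)) :
    (s ≠ 0 ∧ a * (2 * c) + 2 * X ≤ 4 * s) ∨ a * (2 * m) + b * (2 * 2 ^ (m - 1)) ≤ 2 * (m * (m - 1)) + b * 2 := by
  by_contra h
  push Not at h
  obtain ⟨n1, n2⟩ := h
  have d1 := two_le_pow h4
  obtain ⟨n, rfl⟩ : ∃ n, m = n + 1 := ⟨m - 1, by omega⟩
  rcases Nat.eq_zero_or_pos b with rfl | hb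
  · rw [Nat.add_sub_cancel] at *
    have e1 : n + 1 ≤ a := by
      by_contra e
      have := Nat.mul_le_mul_right (2 * (n + 1)) (show a ≤ n by omega)
      linarith only [n2, this]
    have e2 : s ≠ 0 := by omega
    have e3 := two_le_of s3 e2
    have e4 := Nat.mul_le_mul_right (2 * c) e1
    obtain rfl : c = 2 := by linarith only [s2, h1, e3, e4]
    omega
  have e0 := Nat.mul_le_mul_right (2 ^ (n + 1 - 1)) hb
  have e2 : s ≠ 0 := by omega
  have e3 := two_le_of s3 e2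
  have e4 := n1 e2
  have e5 := Nat.mul_le_mul_right (2 * c) ha
  by_cases e6 : 6 ≤ n + 1
  · have := pow_lb e6
    omega
  have e7 : b = 1 := by
    by_contra e
    have := Nat.mul_le_mul_right (2 ^ (n + 1 - 1)) (show 2 ≤ b by omega)
    obtain rfl | rfl : n = 3 ∨ n = 4 := by omega
    all_goals (clear * - ha e4 s1 h1 this; omega)
  subst e7
  have e8 : 2 ≤ a := by
    by_contra e
    obtain rfl : a = 1 := by omega
    obtain rfl | rfl : n = 3 ∨ n = 4 := by omega
    all_goals omega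
  have e9 := Nat.mul_le_mul_right (2 * c) e8
  obtain rfl | rfl : n = 3 ∨ n = 4 := by omega
  all_goals omega

theorem ctg_sum {J : Type} [Fintype J] {m s c : ℕ} (nt : J → Prop) (cost cS cM : J → ℕ) (h4 : 4 ≤ m)
    (s1 : 2 * s ≤ m * (m - 1)) (s2 : 2 * s ≤ (m - 1) * c) (s3 : 2 * s ≤ c * (c - 1))
    (hn : ∀ j, nt j → cS j = c ∧ cM j ≤ m ∧ 2 * c ≤ cost j ∧ 2 ≤ cost j)
    (hs : ∀ j, ¬ nt j → cS j < 2 ^ (m - 1) ∧ cM j < 2 ^ (m - 1) ∧ 2 ^ (m - 1) + cS j ≤ cost j)
    (h0 : ∃ j, nt j) (h : ∑ j, cost j ≤ 4 * s + 4) :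
    (s ≠ 0 ∧ ∑ j, 2 * cS j ≤ 4 * s) ∨ ∑ j, 2 * cM j ≤ 2 * (m * (m - 1)) := by
  classical
  obtain ⟨A, B, hA, hB, hA', sp⟩ : ∃ A B : Finset J, (∀ j ∈ A, nt j) ∧ (∀ j ∈ B, ¬ nt j) ∧ (∀ j, nt j → j ∈ A) ∧
      ∀ f : J → ℕ, ∑ j, f j = ∑ j ∈ A, f j + ∑ j ∈ B, f j :=
    ⟨univ.filter nt, univ.filter fun j => ¬ nt j, fun j hj => (mem_filter.1 hj).2, fun j hj => (mem_filter.1 hj).2,
      fun j hj => mem_filter.2 ⟨mem_univ _, hj⟩, fun f => (sum_filter_add_sum_filter_not _ _ _).symm⟩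
  have a1 : A.card * (2 * c) ≤ ∑ j ∈ A, cost j := card_nsmul_le_sum _ cost (2 * c) fun j hj => (hn j (hA j hj)).2.2.1
  have a2 : A.card * 2 ≤ ∑ j ∈ A, cost j := card_nsmul_le_sum _ cost 2 fun j hj => (hn j (hA j hj)).2.2.2
  have a3 : ∑ j ∈ A, 2 * cS j ≤ A.card * (2 * c) := sum_le_card_nsmul _ _ (2 * c) fun j hj => by rw [(hn j (hA j hj)).1]
  have a4 : ∑ j ∈ A, 2 * cM j ≤ A.card * (2 * m) :=
    sum_le_card_nsmul _ _ (2 * m) fun j hj => Nat.mul_le_mul_left 2 (hn j (hA j hj)).2.1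
  have b1 : B.card * 2 ^ (m - 1) + ∑ j ∈ B, cS j ≤ ∑ j ∈ B, cost j := by
    rw [← smul_eq_mul, ← sum_const, ← sum_add_distrib]
    exact sum_le_sum fun j hj => (hs j (hB j hj)).2.2
  have b2 : ∑ j ∈ B, cS j + B.card ≤ B.card * 2 ^ (m - 1) := by
    rw [card_eq_sum_ones, ← sum_add_distrib, ← card_eq_sum_ones]
    exact sum_le_card_nsmul _ _ _ fun j hj => (hs j (hB j hj)).1
  have b3 : ∑ j ∈ B, 2 * cM j + B.card * 2 ≤ B.card * (2 * 2 ^ (m - 1)) := by
    rw [← smul_eq_mul B.card 2, ← sum_const, ← sum_add_distrib]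
    refine sum_le_card_nsmul _ _ _ fun j hj => ?_
    have := (hs j (hB j hj)).2.1
    omega
  have b4 : ∑ j ∈ B, 2 * cS j = 2 * ∑ j ∈ B, cS j := (mul_sum _ _ _).symm
  rw [sp] at h
  rw [sp, sp fun j => 2 * cM j]
  obtain ⟨j, hj⟩ := h0
  rcases ctg_arith (a := A.card) (X := ∑ j ∈ B, cS j) h4 s1 s2 s3 (card_pos.2 ⟨j, hA' j hj⟩) (by omega) (by omega) b2
    with e | e
  · exact Or.inl ⟨e.1, by omega⟩
  · exact Or.inr (by omega)

variable {m : ℕ} [hm : Fact (2 ≤ m)]

theorem mem_Me {b : PD m} : b ∈ Me (inl (lst m)) ↔ ps b.1.2 < m := by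
  have := hm.out
  rw [Me, mem_filter, ps_eq, ps_inl, lst_val]
  simp only [mem_univ, true_and]
  omega

omit hm in
theorem xv_one (a : II m) : xv 1 a = if ps a < m then 1 else -1 := by
  rcases a with i | i <;> have := i.2 <;> simp only [xv, ps, Pi.one_apply] <;> split_ifs <;> omega

omit hm in
theorem rd_one (b : PD m) : rd b ⬝ᵥ 1 = if ps b.1.2 < m then 2 else 0 := by
  have := b.lt
  rw [rd_dot, xv_one, xv_one]
  split_ifs <;> omega

theorem ab_Me {p : ℕ} (hp : p ≠ 1) : (eD m).rc.Ab p (Me (inl (lst m))) := (abD hp).2 fun b hb b' hb' x y _ _ e => by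
  have h := congrArg (· ⬝ᵥ (1 : Fin m → ℤ)) e
  simp only [add_dotProduct, rd_one, mem_Me.1 hb, mem_Me.1 hb', if_true, wv_dot, xv_one] at h
  split_ifs at h <;> omega

theorem idl_Me (p : ℕ) : (eD m).rc.Idl p (Me (inl (lst m))) := fun b hb β a e _ => by
  have h := congrArg (· ⬝ᵥ (1 : Fin m → ℤ)) (cfD_add.1 e)
  simp only [add_dotProduct, rd_one, mem_Me.1 hb, if_true] at h
  rw [mem_Me]
  split_ifs at h <;> omega

theorem ix_Me : (Ix (Me (inl (lst m)))).card ≤ m := by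
  refine (card_le_card_of_injOn (t := range m) ps (fun a ha => ?_) fun a _ b _ => ps_inj).trans (card_range m).le
  obtain ⟨b, hb, h⟩ := mem_biUnion.1 ha
  have := mem_Me.1 hb
  have := b.lt
  rw [mem_insert, mem_singleton] at h
  rw [mem_coe, mem_range]
  rcases h with rfl | rfl <;> omega

theorem nt_inv (h4 : 4 ≤ m) {l : Fin m → ℕ} (h : Nt l) : l ∘ (gN m).symm = l := funext fun i => by
  rw [h, gN_symm, Function.comp_apply, Pi.single_apply, Pi.single_apply]
  simp only [Fin.ext_iff, gN_val, fst]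
  split_ifs <;> omega

theorem spn_not_inv {l : Fin m → ℕ} (h : Spn l) : l ∘ (gN m).symm ≠ l := fun e => by
  have h0 := hm.out
  have h1 := congrFun e (lst m)
  rw [gN_symm, Function.comp_apply, show gN m (lst m) = pen m from Equiv.swap_apply_right _ _] at h1
  have h2 : pen m ≠ lst m := fun e => by have := congrArg Fin.val e; rw [pen_val, lst_val] at this; omega
  rcases h with rfl | rfl
  · rw [Pi.single_eq_same, Pi.single_eq_of_ne h2.symm] at h1; omega
  · rw [Pi.single_eq_same, Pi.single_eq_of_ne h2] at h1; omega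

variable {p : ℕ} [Fact p.Prime] {k : Type} [Field k] [CharP k p]

section mod

variable (hB : BoxBig) (hM : BoxMin) (h4 : 4 ≤ m) {R : RC (Fin m) (PD m)} (hR : R = (eD m).rc)
include h4 hR

include hM in
theorem ab_card {S : Finset (PD m)} (h : R.Ab p S) :
    2 * S.card ≤ m * (m - 1) ∧ 2 * S.card ≤ (m - 1) * (Ix S).card ∧ 2 * S.card ≤ (Ix S).card * ((Ix S).card - 1) := by
  obtain ⟨h1, h2, h3, -⟩ := (hM p m h4).2.1 S (hR ▸ h)
  exact ⟨h1, h2, h3⟩

variable {L : Type} [AddCommGroup L] [Module k L] (H : HW R p k L)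

include hM in
theorem spn_d (h : Spn H.lam) : H.d = 2 ^ (m - 1) := by
  subst hR
  exact (((hM p m h4).2.2 k L H).2 h).2

include hB in
theorem big_d (hp : p = 2) (h1 : ¬ Nt H.lam) (h2 : ¬ Spn H.lam) : 2 * (m * (m - 1)) ≤ H.d := by
  subst hR
  exact (hB p m h4 k L H h1 h2).2.1 hp

include hB in
theorem big_g (hp : p = 2) (h1 : ¬ Nt H.lam) (h2 : H.lam ∘ (gN m).symm = H.lam) (g : H.GOp (gN m) (gP m))
    {S : Finset (PD m)} (hA : R.Ab p S) (hI : R.Idl p S) :
    2 * S.card + 3 ≤ H.cL S ∨ 2 * S.card + 3 ≤ H.d - finrank k (LinearMap.ker (g.g.toLinearMap - 1)) := by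
  subst hR
  exact (hB p m h4 k L H h1 fun e => spn_not_inv e h2).2.2 hp h2 g S hA hI

include hB hM in
theorem le_d (hp : p = 2) : 2 * m ≤ H.d := by
  by_cases h1 : Nt H.lam
  · exact (natM_of hM h4 hR h1).1.d.ge
  by_cases h2 : Spn H.lam
  · rw [spn_d hM h4 hR H h2]; exact two_le_pow h4
  · exact le_trans (Nat.mul_le_mul_left 2 (Nat.le_mul_of_pos_right _ (by omega))) (big_d hB h4 hR H hp h1 h2)

omit h4 hR in
theorem one_le_cod {H : HW R p k L} (h : NatM H) (g : H.GOp (gN m) (gP m)) :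
    1 ≤ H.d - finrank k (LinearMap.ker (g.g.toLinearMap - 1)) := by
  have h0 := hm.out
  refine (card_singleton _).ge.trans (TE.card_le_codim_fix H g (fun ν => 0 < e2 ν (lst m)) (fun ν h1 h2 => ?_)
    {om (inl (lst m))} fun ν hν => ?_)
  · rw [e2_gN, gV, if_pos (by rw [lst_val]; omega)] at h2
    omega
  · rw [mem_singleton.1 hν, e2_om]
    exact ⟨h.isWt _, by simp [wv]⟩

include hB hM in
theorem bg_D (hp : p = 2) : BG R p k (gN m) := fun L _ _ H hH => by
  refine ⟨by have := le_d hB hM h4 hR H hp; omega, fun S hS hA _ => ?_⟩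
  obtain ⟨s1, s2, s3⟩ := ab_card hM h4 hR hA
  have c1 := H.cL_lt_d S
  obtain ⟨e, he⟩ : ∃ e, 2 * H.d = H.cL S + e := ⟨2 * H.d - H.cL S, by omega⟩
  rw [he, Nat.add_sub_cancel_left]
  obtain ⟨n, rfl⟩ : ∃ n, m = n + 1 := ⟨m - 1, by omega⟩
  rw [Nat.add_sub_cancel] at s1 s2
  by_cases h1 : Nt H.lam
  · obtain ⟨a1, a2⟩ := natM_of hM h4 hR h1
    have a3 := two_le_of s3 hS.card_pos.ne'
    rw [← a2] at s2 a3
    rw [a1.d] at c1 he
    obtain ⟨e', rfl⟩ : ∃ e', e = 2 * n + 3 + e' := ⟨e - (2 * n + 3), by omega⟩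
    nlinarith only [h4, s2, a3, he]
  · have a1 := big_d hB h4 hR H hp h1 fun e => spn_not_inv e hH
    have a2 := H.one_le_cL' hS fun b => E_ne h4 hR H _
    rw [Nat.add_sub_cancel] at a1
    nlinarith only [h4, s1, c1, he, a1, a2]

end mod

variable (hB : BoxBig) (hM : BoxMin) (h4 : 4 ≤ m) {G : Type} [Group G] {D : RDat p (Fin m) (PD m) k G}
  (hR : D.R = (eD m).rc) (hp : p = 2) {σ : Equiv.Perm (Fin m)}
include hB hM h4 hR hp

theorem ctf_D (Q : Fam D σ → Prop) : CTF D (fun _ => True) σ Q := by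
  intro J _ _ L _ _ H rep _ S hA hI sl hsl _ h1
  exfalso
  obtain ⟨j⟩ := ‹Nonempty J›
  have h2 := le_trans (single_le_sum (f := fun j => (H j).d * ((H j).d - 1) + if S.Nonempty then 2 else 0)
    (fun _ _ => Nat.zero_le _) (mem_univ j)) h1
  have h3 := le_d hB hM h4 hR (H j) hp
  have h5 := (ab_card hM h4 hR hA).1
  have h6 := Nat.mul_le_mul h3 (Nat.sub_le_sub_right h3 1)
  obtain ⟨n, rfl⟩ : ∃ n, m = n + 1 := ⟨m - 1, by omega⟩
  rw [Nat.add_sub_cancel] at h5
  rw [show 2 * (n + 1) - 1 = 2 * n + 1 by omega] at h6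
  have h7 : 2 * (n + 1) * (2 * n + 1) ≤ 4 * S.card + 4 := by omega
  linarith only [h4, h5, h7]

theorem ctg_D (Q : Fam D σ → Prop)
    (hQ : ∀ (F : Fam D σ) S, S.Nonempty → D.R.Ab p S → D.R.Idl p S → F.val S ≤ 4 * S.card → Q F) :
    CTG D σ (gN m) (gP m) Q := by
  intro F hd g ⟨j₀, hj₀⟩ _ O u _ _ _ _ _ S h1 hA hI h2 h3
  rw [← h1] at h3
  obtain ⟨s1, s2, s3⟩ := ab_card hM h4 hR hA
  have hv : ∀ S, F.val S = ∑ j, 2 * (F.H j).cL S := fun S => sum_congr rfl fun j _ => by rw [hd j, if_neg (by simp)]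
  generalize hc : (fun j => if hj : (F.H j).lam ∘ (gN m).symm = (F.H j).lam then
    2 * ((F.H j).d - finrank k ↥(LinearMap.ker ((g j hj).g.toLinearMap - 1) ⊓ ⨅ o ∈ O, LinearMap.ker ((F.H j).op (u o))))
    else 2 * (F.H j).d - finrank k ↥(⨅ o ∈ O, LinearMap.ker ((F.H j).op (u o)))) = cost at h3
  have c1 : ∀ j hj, 2 * (F.H j).cL S ≤ cost j ∧
      2 * ((F.H j).d - finrank k (LinearMap.ker ((g j hj).g.toLinearMap - 1))) ≤ cost j := fun j hj => by
    have := (F.H j).fd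
    have a1 := (Submodule.finrank_mono (inf_le_right (a := LinearMap.ker ((g j hj).g.toLinearMap - 1)))).trans (h2 j)
    have a2 := Submodule.finrank_mono (inf_le_left (a := LinearMap.ker ((g j hj).g.toLinearMap - 1))
      (b := ⨅ o ∈ O, LinearMap.ker ((F.H j).op (u o))))
    have a3 := (F.H j).cL_add S
    rw [← hc]
    simp only [dif_pos hj]
    omega
  have c2 : ∀ j, (F.H j).lam ∘ (gN m).symm ≠ (F.H j).lam → (F.H j).d + (F.H j).cL S ≤ cost j := fun j hj => by
    have a1 := h2 j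
    have a3 := (F.H j).cL_add S
    rw [← hc]
    simp only [dif_neg hj]
    omega
  have c3 : ∀ j, (F.H j).lam ∘ (gN m).symm = (F.H j).lam → Nt (F.H j).lam := fun j hj => by
    by_contra e
    have a1 := big_g hB h4 hR (F.H j) hp e hj (g j hj) hA hI
    have a2 := c1 j hj
    have a3 := (single_le_sum (f := cost) (fun _ _ => Nat.zero_le _) (mem_univ j)).trans h3
    omega
  have c4 : ∀ j, Nt (F.H j).lam → (F.H j).cL S = (Ix S).card ∧ (F.H j).cL (Me (inl (lst m))) ≤ m ∧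
      2 * (Ix S).card ≤ cost j ∧ 2 ≤ cost j := fun j hj => by
    obtain ⟨a1, a2⟩ := natM_of hM h4 hR hj
    have a3 := c1 j (nt_inv h4 hj)
    have a4 := one_le_cod a1 (g j (nt_inv h4 hj))
    exact ⟨a2 S, a2 _ ▸ ix_Me, a2 S ▸ a3.1, by omega⟩
  have c5 : ∀ j, ¬ Nt (F.H j).lam → (F.H j).d = 2 ^ (m - 1) := fun j hj => spn_d hM h4 hR _ (by
    by_contra e
    have a1 := big_d hB h4 hR (F.H j) hp hj e
    have a2 := c2 j fun e' => hj (c3 j e')
    have a3 := (c4 j₀ (c3 j₀ hj₀)).2.2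
    have a4 := (add_le_sum (f := cost) (fun _ _ => Nat.zero_le _) (mem_univ j) (mem_univ j₀)
      fun e' => hj (e' ▸ c3 j₀ hj₀)).trans h3
    rcases S.eq_empty_or_nonempty with rfl | hS
    · have := Nat.mul_le_mul h4 (show 1 ≤ m - 1 by omega)
      rw [card_empty] at a4
      omega
    · have a5 := (F.H j).one_le_cL' hS fun b => E_ne h4 hR _ _
      have a6 := two_le_of s3 hS.card_pos.ne'
      omega)
  rcases ctg_sum (fun j => Nt (F.H j).lam) cost (fun j => (F.H j).cL S) (fun j => (F.H j).cL (Me (inl (lst m)))) h4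
    s1 s2 s3 c4 (fun j hj => ⟨c5 j hj ▸ (F.H j).cL_lt_d _, c5 j hj ▸ (F.H j).cL_lt_d _,
      c5 j hj ▸ c2 j fun e' => hj (c3 j e')⟩) ⟨j₀, c3 j₀ hj₀⟩ h3 with e | e
  · exact hQ F S (card_pos.1 (Nat.pos_of_ne_zero e.1)) hA hI (hv S ▸ e.2)
  · have a1 := (hM p m h4).1.1
    have a2 := Nat.mul_le_mul h4 (show 1 ≤ m - 1 by omega)
    exact hQ F (Me (inl (lst m))) (card_pos.1 (by omega)) (hR ▸ ab_Me (Fact.out : p.Prime).ne_one) (hR ▸ idl_Me p)
      (by rw [hv]; omega)

end DD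

open DD in
/-- **type `D`: the combinatorial statements** -/
theorem boxD (h1 : BoxBig) (h2 : BoxMin) (h3 : BoxCT) : BoxD := by
  intro p _ m _ h4 k G _ _ _ _ D hR P hG hS
  have hF : Faith D.R p k fun _ => True := hR ▸ faithD (by omega) p k
  have sq : ∀ γ : P.Gr, γ * γ = 1 := fun γ => P.gι_inj (by
    rcases hG γ with rfl | e
    · rw [mul_one]
    · rw [map_mul, map_one, e.1]; exact Equiv.ext gN_gN)
  have two : ∀ γ : P.Gr, γ ≠ 1 → γ ^ p = 1 → p = 2 := fun γ e1 e2 =>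
    (Nat.prime_dvd_prime_iff_eq Fact.out Nat.prime_two).1
      (orderOf_eq_prime e2 e1 ▸ orderOf_dvd_of_pow_eq_one (by rw [pow_two, sq]))
  have ct : ∀ F : Fam D (P.gι P.σ), (p ≠ 2 → P.gΦ P.σ * P.gΦ P.σ = 1 → (∀ j, F.dbl j = false) → F.Flex (P.gΦ P.σ)) →
      ∀ S : Finset (PD m), S.Nonempty → D.R.Ab p S → D.R.Idl p S → F.val S ≤ 4 * S.card → P.Q F := by
    intro F hX S a1 a2 a3 a4
    rcases h3 p m h4 k G D hR (P.gι P.σ) (P.gΦ P.σ) ((hG P.σ).imp_left fun e => by rw [e]; exact ⟨map_one _, map_one _⟩) F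
      ((boxDeg2 p _ _ k G D (TE.fa_of_faith hF (fst m))).top _ F) S a1 a2 a3 a4 with e | ⟨e1, e2, e3⟩
    · exact Or.inl e
    have e4 : P.σ ≠ 1 := fun e => gN_ne_one (by rw [← e1, e, map_one])
    by_cases hp : p = 2
    · exact Or.inr (goodT hp P (hS hp e4) F (fun j => (natM_of h2 h4 hR (e2 j).1).1) (fun j => (e2 j).2) e3)
    · exact (no_flex h2 h4 hR hp F (fun j => (e2 j).1) e3
        (((hG _).resolve_left e4).2 ▸ hX hp (by rw [← map_mul, sq, map_one]) fun j => (e2 j).2)).elim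
  refine ⟨TE.ex_true (fst m), fun _ _ _ => trivial, hF, fun F _ _ hX => ct F fun _ => hX, fun γ e1 e2 _ => ?_,
    fun γ e1 e2 _ => ?_, fun hp => ctf_D h1 h2 h4 hR hp _, fun ⟨γ, γ', h⟩ => ?_⟩
  · rw [((hG γ).resolve_left e1).1]
    exact bg_D h1 h2 h4 hR (two γ e1 e2)
  · rw [((hG γ).resolve_left e1).1, ((hG γ).resolve_left e1).2]
    exact ctg_D h1 h2 h4 hR (two γ e1 e2) _ fun F => ct F fun e => (e (two γ e1 e2)).elim
  · exfalso
    rcases hG γ with rfl | e1
    · exact h (Commute.one_left _)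
    rcases hG γ' with rfl | e2
    · exact h (Commute.one_right _)
    exact h (P.gι_inj (e1.1.trans e2.1.symm) ▸ Commute.refl _)

end Cfsg.Agent.TwoF.DC.TBD
end

private theorem dce_c29a7487f5fd : _root_.True := by
  try have : _root_.True := by simp only [_root_.Cfsg.Agent.TwoF.DC.TBD.mkD.eq_1]
  try have : _root_.True := by simp only [_root_.Cfsg.Agent.TwoF.DC.TBD.M1.eq_1]
  try have : _root_.True := by simp only [_root_.Cfsg.Agent.TwoF.DC.TBD.fst.eq_1]
  try have : _root_.True := by simp only [_root_.Cfsg.Agent.TwoF.DC.TBD.fst.congr_simp]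
  try have : _root_.True := by simp only [_root_.Cfsg.Agent.TwoF.DC.TBD.On.eq_1]
  try have : _root_.True := by simp only [_root_.Cfsg.Agent.TwoF.DC.TBD.DD.UU.congr_simp]
  try have : _root_.True := by simp only [_root_.Cfsg.Agent.TwoF.DC.TBD.yy.congr_simp]
  try have : _root_.True := by simp only [_root_.Cfsg.Agent.TwoF.DC.TBD.dm.congr_simp]
  try have : _root_.True := by simp only [_root_.Cfsg.Agent.TwoF.DC.TBD.DD.UU.eq_1]
  try have : _root_.True := by simp only [_root_.Cfsg.Agent.TwoF.DC.TBD.CT.sv.congr_simp]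
  try have : _root_.True := by simp only [_root_.Cfsg.Agent.TwoF.DC.TBD.Me.eq_1]
  try have : _root_.True := by simp only [_root_.Cfsg.Agent.TwoF.DC.TBD.CT.sv.eq_1]
  try have : _root_.True := by simp only [_root_.Cfsg.Agent.TwoF.DC.TBD.DD.om.congr_simp]
  try have : _root_.True := by simp only [_root_.Cfsg.Agent.TwoF.DC.TBD.CT.sg.eq_1]
  try have : _root_.True := by simp only [_root_.Cfsg.Agent.TwoF.DC.TBD.yy.eq_1]
  try have : _root_.True := by simp only [_root_.Cfsg.Agent.TwoF.DC.TBD.dp.congr_simp]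
  exact _root_.True.intro
end

-- part: TwoF/DC/TBD/Min
section
prune_inst 0xe00000002000000000180512920000040400019200400001f8c006420347d240804108014a001d12000c10001800000811100010020000000a0030000002002080200000900803042c0001803082000000000000000000000000000000041004000000000
set_option linter.all false
open scoped Cfsg.Agent.FastGrp

-- part: TwoF/DC/TBD/MinW
section
/-!
# TwoF, defining characteristic, type D: the natural and the half spin modules (helper57)

* `nat_*` : the natural module;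
* `Sgn y` : sign vectors, `sv η T` : the sign vector with minus signs at `T` and product `η`; `spn_*` : half spin modules;
* `SpnE.le_cL`, `Spn.le_cL` : the spin lemma.
-/

set_option autoImplicit false
set_option linter.unusedSectionVars false

namespace Cfsg.Agent.TwoF.DC.TBD

open Finset Matrix Sum Cfsg.Agent.TwoF.DC.TC

variable {m : ℕ}

theorem mem_Ix {S : Finset (PD m)} {a : II m} : a ∈ Ix S ↔ ∃ b ∈ S, a = b.1.1 ∨ a = b.1.2 := by simp only [Ix, _root_.Finset.mem_biUnion, _root_.Finset.mem_insert, _root_.Finset.mem_singleton, _root_.Subtype.exists, _root_.exists_and_right, _root_.Prod.exists, _root_.Sum.exists]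

theorem mem_Ix' {S : Finset (PD m)} {a : II m} : a ∈ Ix S ↔ ∃ b ∈ S, ∃ y, IsD b a y := by
  rw [mem_Ix]
  refine exists_congr fun b => and_congr_right fun _ => ⟨?_, ?_⟩
  · rintro (rfl | rfl)
    exacts [⟨_, IsD.self b⟩, ⟨_, (IsD.self b).symm⟩]
  · rintro ⟨y, h | h⟩ <;> rw [h] <;> simp

theorem two_wv_inj {a b : II m} (h : (2 : ℤ) • wv a = (2 : ℤ) • wv b) : a = b :=
  wv_inj (smul_right_injective _ two_ne_zero h)

theorem wo_wv {i j : Fin m} (hij : j ≠ i) {y : Fin m → ℤ} :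
    WO ((2 : ℤ) • wv (inl i : II m)) y ↔ ∃ a, y = (2 : ℤ) • wv a := by
  have h1 : ∀ (π : Equiv.Perm (Fin m)) (ε : Fin m → ℤˣ), sp π ε ((2 : ℤ) • wv (inl i : II m)) =
      (ε (π.symm i) : ℤ) • (2 : ℤ) • wv (inl (π.symm i) : II m) := fun π ε => funext fun l => by
    simp only [sp_apply, wv, Pi.smul_apply, Pi.single_apply, smul_eq_mul, ← Equiv.eq_symm_apply]
    split_ifs with h
    · rw [h]
    · simp
  constructor
  · rintro ⟨π, ε, -, rfl⟩
    rw [h1]
    rcases Int.units_eq_one_or (ε (π.symm i)) with h | h <;> rw [h]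
    · exact ⟨inl (π.symm i), by simp⟩
    · exact ⟨inr (π.symm i), by simp only [wv, _root_.Units.val_neg, _root_.Units.val_one, _root_.Int.reduceNeg, _root_.zsmul_eq_mul, _root_.Int.cast_ofNat, _root_.neg_smul, _root_.one_smul, _root_.smul_neg]⟩
  · have h0 : ((2 : ℤ) • wv (inl i : II m)) j = 0 := by simp [wv, hij]
    rintro ⟨l | l, rfl⟩
    · have h := wo_of_zero h0 (Equiv.swap i l) 1
      rw [h1] at h
      simpa using h
    · have h := wo_of_zero h0 (Equiv.swap i l) fun _ => -1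
      rw [h1] at h
      simpa only [wv, _root_.zsmul_eq_mul, _root_.Int.cast_ofNat, _root_.smul_neg, _root_.Units.val_neg, _root_.Units.val_one, _root_.Int.reduceNeg, _root_.Equiv.symm_swap, _root_.Equiv.swap_apply_left, _root_.neg_smul, _root_.one_smul] using h

/-- sign vectors -/
def Sgn (y : Fin m → ℤ) : Prop := ∀ i, y i = 1 ∨ y i = -1

theorem Sgn.xv {y : Fin m → ℤ} (h : Sgn y) (a : II m) : xv y a = 1 ∨ xv y a = -1 := by
  rcases a with i | i <;> have := h i <;> simp only [TC.xv] <;> omega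

theorem Sgn.wo {x y : Fin m → ℤ} (h : Sgn x) : WO x y ↔ Sgn y ∧ ∏ i, y i = ∏ i, x i := by
  constructor
  · rintro ⟨π, ε, h1, rfl⟩
    refine ⟨fun i => ?_, ?_⟩
    · rcases Int.units_eq_one_or (ε i) with e | e <;> rcases h (π i) with e' | e' <;> simp [sp_apply, e, e']
    · simp only [sp_apply, prod_mul_distrib]
      rw [← Units.coe_prod, h1, Units.val_one, one_mul, Equiv.prod_comp π x]
  · rintro ⟨h1, h2⟩
    have h3 : ∀ i, x i * x i = 1 := fun i => by rcases h i with e | e <;> simp [e]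
    have h4 : ∀ i, ((if y i = x i then 1 else -1 : ℤˣ) : ℤ) = y i * x i := fun i => by
      rcases h i with e | e <;> rcases h1 i with e' | e' <;> simp [e, e']
    refine ⟨1, fun i => if y i = x i then 1 else -1, Units.ext ?_, funext fun i => ?_⟩
    · rw [Units.coe_prod, Units.val_one]
      simp only [h4]
      rw [prod_mul_distrib, h2, ← prod_mul_distrib]
      simp only [h3, prod_const_one]
    · rw [sp_apply, h4, Equiv.Perm.one_apply, mul_assoc, h3, mul_one]

variable [hm : Fact (2 ≤ m)]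

/-- the sign vector with minus signs at `T` (a set not containing the last index) and product `η` -/
def sv (η : ℤ) (T : Finset (Fin m)) : Fin m → ℤ := fun i =>
  if i = lst m then η * (-1) ^ T.card else if i ∈ T then -1 else 1

theorem sv_lst (η : ℤ) (T : Finset (Fin m)) : sv η T (lst m) = η * (-1) ^ T.card := if_pos rfl

theorem sv_ne (η : ℤ) (T : Finset (Fin m)) {i : Fin m} (h : i ≠ lst m) : sv η T i = if i ∈ T then -1 else 1 := if_neg h

theorem sgn_sv {η : ℤ} (h : η = 1 ∨ η = -1) (T : Finset (Fin m)) : Sgn (sv η T) := fun i => by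
  unfold sv
  split_ifs
  · rcases h with rfl | rfl <;> rcases neg_one_pow_eq_or ℤ T.card with e | e <;> simp [e]
  · exact Or.inr rfl
  · exact Or.inl rfl

theorem prod_sv (η : ℤ) {T : Finset (Fin m)} (hT : lst m ∉ T) : ∏ i, sv η T i = η := by
  rw [← mul_prod_erase _ _ (mem_univ (lst m)), sv_lst, prod_congr rfl fun i hi => sv_ne η T (ne_of_mem_erase hi),
    prod_ite, prod_const_one, mul_one, prod_const, show (univ.erase (lst m)).filter (· ∈ T) = T from ?_, mul_assoc,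
    ← pow_add, ← two_mul, pow_mul, neg_one_sq, one_pow, mul_one]
  ext i
  simp only [mem_filter, mem_erase, mem_univ, and_true, and_iff_right_iff_imp]
  exact fun h => ne_of_mem_of_not_mem h hT

theorem sv_inj {η : ℤ} {T T' : Finset (Fin m)} (hT : lst m ∉ T) (hT' : lst m ∉ T') (h : sv η T = sv η T') : T = T' := by
  ext i
  by_cases e : i = lst m
  · rw [e]; exact iff_of_false hT hT'
  have h1 := congrFun h i
  rw [sv_ne _ _ e, sv_ne _ _ e] at h1
  split_ifs at h1 with e1 e2 e2 <;> simp [e1, e2] at h1 ⊢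

theorem Sgn.eq_sv {y : Fin m → ℤ} (h : Sgn y) : ∃ T, lst m ∉ T ∧ y = sv (∏ i, y i) T := by
  have h0 : lst m ∉ (univ.erase (lst m)).filter fun i => y i = -1 := by simp only [_root_.Int.reduceNeg, _root_.Finset.mem_filter, _root_.Finset.mem_erase, _root_.ne_eq, _root_.not_true_eq_false, _root_.Finset.mem_univ, _root_.and_true, _root_.false_and, _root_.not_false_eq_true]
  refine ⟨_, h0, ?_⟩
  generalize hT : ((univ.erase (lst m)).filter fun i => y i = -1) = T at h0
  have h1 : ∀ η i, i ≠ lst m → y i = sv η T i := fun η i e => by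
    rw [sv_ne _ _ e, ← hT]
    rcases h i with e' | e' <;> simp only [e, e', _root_.Int.reduceNeg, _root_.Finset.mem_filter, _root_.Finset.mem_erase, _root_.ne_eq, _root_.not_false_eq_true, _root_.Finset.mem_univ, _root_.and_self, _root_.reduceCtorEq, _root_.and_false, ↓ _root_.reduceIte]
  funext i
  by_cases e : i = lst m
  swap
  · exact h1 _ i e
  have h2 := prod_sv (∏ i, y i) h0
  rw [← mul_prod_erase _ _ (mem_univ (lst m)), ← prod_congr rfl fun i hi => h1 _ i (ne_of_mem_erase hi)] at h2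
  nth_rewrite 2 [← mul_prod_erase _ _ (mem_univ (lst m))] at h2
  rw [e]
  exact (mul_right_cancel₀ (prod_ne_zero_iff.2 fun i _ => by have := h i; omega) h2).symm

theorem fw_lst : fw (lst m) = sv 1 ∅ := funext fun i => by
  have := hm.out
  rw [fw, if_neg (by rw [lst_val]; omega), if_neg (by rw [lst_val]; omega)]
  simp [sv]

theorem fw_pen : fw (pen m) = sv (-1) ∅ := funext fun i => by
  have := hm.out
  have := i.2
  simp only [fw, sv, pen_val, lst_val, card_empty, notMem_empty, Fin.ext_iff, if_false, pow_zero]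
  split_ifs <;> omega

theorem fw_fst (h3 : 3 ≤ m) : fw (fst m) = (2 : ℤ) • wv (inl (fst m)) := funext fun i => by
  simp only [fw, wv, fst, Pi.smul_apply, Pi.single_apply, Fin.ext_iff, smul_eq_mul]
  split_ifs <;> omega

theorem card_pow : (univ.erase (lst m)).powerset.card = 2 ^ (m - 1) := by
  rw [card_powerset, card_erase_of_mem (mem_univ _), card_univ, Fintype.card_fin]

theorem mem_pow {T : Finset (Fin m)} : T ∈ (univ.erase (lst m)).powerset ↔ lst m ∉ T := by
  rw [mem_powerset, subset_erase, and_iff_right (subset_univ _)]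

theorem card_image_sv (η : ℤ) {𝒯 : Finset (Finset (Fin m))} (h : ∀ T ∈ 𝒯, lst m ∉ T) :
    (𝒯.image (sv η)).card = 𝒯.card := card_image_of_injOn fun T hT T' hT' e => sv_inj (h T hT) (h T' hT') e

section HW

variable {p : ℕ} {k L : Type} [Field k] [AddCommGroup L] [Module k L] {H : HW (eD m).rc p k L}

theorem lz_single {i : Fin m} (h : H.lam = Pi.single i 1) : H.lz = Pi.single i 1 := funext fun j => by
  simp only [HW.lz, h, Pi.single_apply]
  split_ifs <;> rfl

theorem e2_lz {i : Fin m} (h : H.lam = Pi.single i 1) : e2 H.lz = fw i := by rw [lz_single h, e2_single]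

theorem min_isWt (h : H.Min) {μ : Fin m → ℤ} : H.IsWt μ ↔ WO (e2 H.lz) (e2 μ) :=
  ⟨fun h1 => (ext_D H).1 (h.ext h1), fun h1 => ((ext_D H).2 h1).isWt⟩

theorem min_d_le (h : H.Min) (A : Finset (Fin m → ℤ)) (hA : ∀ y, WO (e2 H.lz) y → y ∈ A) : H.d ≤ A.card := by
  rw [h.d_eq]
  exact card_le_card_of_injOn e2 (fun μ hμ => hA _ ((min_isWt h).1 (H.mem_Wts.1 hμ))) e2_inj.injOn

theorem min_cG_le (h : H.Min) (S : Finset (PD m)) (A : Finset (Fin m → ℤ))
    (hA : ∀ y, WO (e2 H.lz) y → (∃ b ∈ S, rd b ⬝ᵥ y < 0) → y ∈ A) : H.cG S ≤ A.card := by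
  classical
  refine (h.cG_le S (A.preimage e2 e2_inj.injOn) fun μ h1 h2 => ?_).trans
    (by rw [card_preimage]; exact card_filter_le _ _)
  simp only [pair_neg_iff] at h2
  exact mem_preimage.2 (hA _ ((ext_D H).1 h1) h2)

variable (H) in
theorem ext_le_d (A : Finset (Fin m → ℤ)) (hA : ∀ y ∈ A, WO (e2 H.lz) y) : A.card ≤ H.d :=
  card_le_dD H H.lz_dom (fun _ => le_rfl) A hA

/-! ### the natural module -/

section nat

variable (h3 : 3 ≤ m) (h : Nt H.lam)
include h3 h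

theorem nat_e2 : e2 H.lz = (2 : ℤ) • wv (inl (fst m)) := (e2_lz h).trans (fw_fst h3)

theorem nat_wo {y : Fin m → ℤ} : WO (e2 H.lz) y ↔ ∃ a, y = (2 : ℤ) • wv a := by
  rw [nat_e2 h3 h]
  exact wo_wv (j := lst m) fun e => by
    have : (lst m).1 = 0 := congrArg Fin.val e
    rw [lst_val] at this
    omega

theorem nat_min : H.Min := fun b => by
  have h1 := two_pair_true H.lz b
  have := b.2
  rw [nat_e2 h3 h, rd_dot, xv_smul, xv_smul, xv_wv', xv_wv'] at h1
  split_ifs at h1 <;> omega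

theorem nat_isWt (μ : Fin m → ℤ) : H.IsWt μ ↔ ∃ a, e2 μ = (2 : ℤ) • wv a := (min_isWt (nat_min h3 h)).trans (nat_wo h3 h)

theorem nat_d : H.d = 2 * m := by
  have h1 : (univ.image fun a : II m => (2 : ℤ) • wv a).card = 2 * m := by
    rw [card_image_of_injective _ fun a b => two_wv_inj, card_univ, Fintype.card_sum, Fintype.card_fin, two_mul]
  refine (le_antisymm (min_d_le (nat_min h3 h) _ fun y hy => ?_) (ext_le_d H _ fun y hy => ?_)).trans h1
  · obtain ⟨a, rfl⟩ := (nat_wo h3 h).1 hy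
    exact mem_image_of_mem _ (mem_univ a)
  · obtain ⟨a, -, rfl⟩ := mem_image.1 hy
    exact (nat_wo h3 h).2 ⟨a, rfl⟩

theorem nat_c [Fact p.Prime] [CharP k p] (S : Finset (PD m)) : H.cL S = (Ix S).card ∧ H.cG S = (Ix S).card := by
  have h1 : ((Ix S).image fun a : II m => (2 : ℤ) • wv a.swap).card = (Ix S).card :=
    card_image_of_injective _ fun a b e => swap_inj.1 (two_wv_inj e)
  have h2 : ∀ (a : II m) (b : PD m), rd b ⬝ᵥ (2 : ℤ) • wv a.swap < 0 ↔ a = b.1.1 ∨ a = b.1.2 := fun a b => by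
    have := b.2
    have := ps_swap a
    rw [rd_dot, xv_smul, xv_smul, xv_wv', xv_wv', ps_eq, ps_eq]
    split_ifs <;> omega
  have h4 : (Ix S).card ≤ H.cL S := h1 ▸ card_le_cLD H S H.lz_dom (fun _ => le_rfl) _ fun y hy => by
    obtain ⟨a, ha, rfl⟩ := mem_image.1 hy
    obtain ⟨b, hb, e⟩ := mem_Ix.1 ha
    exact ⟨(nat_wo h3 h).2 ⟨_, rfl⟩, b, hb, (h2 a b).2 e⟩
  have h5 : H.cG S ≤ (Ix S).card := h1 ▸ min_cG_le (nat_min h3 h) S _ fun y hy ⟨b, hb, e⟩ => by
    obtain ⟨a, rfl⟩ := (nat_wo h3 h).1 hy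
    rw [← swap_swap a] at e ⊢
    exact mem_image_of_mem _ (mem_Ix.2 ⟨b, hb, (h2 _ b).1 e⟩)
  have h6 := H.cL_le_cG S
  omega

end nat

/-! ### the half spin modules -/

variable (H) in
/-- the half spin module whose weights are the sign vectors of product `η` -/
def SpnE (η : ℤ) : Prop := (η = 1 ∧ H.lam = Pi.single (lst m) 1) ∨ (η = -1 ∧ H.lam = Pi.single (pen m) 1)

theorem Spn.exists (h : Spn H.lam) : ∃ η, SpnE H η := h.elim (fun h => ⟨_, Or.inr ⟨rfl, h⟩⟩) fun h => ⟨_, Or.inl ⟨rfl, h⟩⟩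

namespace SpnE

variable {η : ℤ} (h : SpnE H η)
include h

theorem sign : η = 1 ∨ η = -1 := h.imp And.left And.left

theorem e2_eq : e2 H.lz = sv η ∅ := by
  rcases h with ⟨rfl, h⟩ | ⟨rfl, h⟩
  exacts [(e2_lz h).trans fw_lst, (e2_lz h).trans fw_pen]

theorem wo {y : Fin m → ℤ} : WO (e2 H.lz) y ↔ Sgn y ∧ ∏ i, y i = η := by
  rw [h.e2_eq, (sgn_sv h.sign _).wo, prod_sv η (notMem_empty _)]

theorem wo' {y : Fin m → ℤ} : WO (e2 H.lz) y ↔ ∃ T, lst m ∉ T ∧ y = sv η T := by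
  rw [h.wo]
  constructor
  · rintro ⟨h1, rfl⟩
    exact h1.eq_sv
  · rintro ⟨T, hT, rfl⟩
    exact ⟨sgn_sv h.sign T, prod_sv η hT⟩

theorem min : H.Min := fun b => by
  have h1 := two_pair_true H.lz b
  have := (sgn_sv h.sign ∅).xv b.1.1
  have := (sgn_sv h.sign ∅).xv b.1.2
  rw [h.e2_eq, rd_dot] at h1
  omega

theorem isWt (μ : Fin m → ℤ) : H.IsWt μ ↔ Sgn (e2 μ) ∧ ∏ i, e2 μ i = η := (min_isWt h.min).trans h.wo

theorem d_eq : H.d = 2 ^ (m - 1) := by
  rw [← card_pow, ← card_image_sv η fun T hT => mem_pow.1 hT]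
  refine le_antisymm (min_d_le h.min _ fun y hy => ?_) (ext_le_d H _ fun y hy => ?_)
  · obtain ⟨T, hT, rfl⟩ := h.wo'.1 hy
    exact mem_image_of_mem _ (mem_pow.2 hT)
  · obtain ⟨T, hT, rfl⟩ := mem_image.1 hy
    exact h.wo'.2 ⟨T, mem_pow.1 hT, rfl⟩

variable [Fact p.Prime] [CharP k p]

end SpnE

theorem Spn.min (h : Spn H.lam) : H.Min := h.exists.elim fun _ h => h.min

theorem Spn.d_eq (h : Spn H.lam) : H.d = 2 ^ (m - 1) := h.exists.elim fun _ h => h.d_eq

end HW

end Cfsg.Agent.TwoF.DC.TBD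
end

-- part: TwoF/DC/TBD/Min
section
/-!
# TwoF, defining characteristic, type D: abelian sets of roots, `boxMin` (helper57)

* `AbG S` : an abelian set of roots as a graph on signed indices; `AbG.le₁`, `le₂`, `eq_case`, `extra`;
* `spn_two`, `spn_Me`, `spn_Me'`, `spn_nine`, `spn_cG_M1` : bounds for the half spin modules;
* `boxMin`.
-/

set_option autoImplicit false
set_option linter.unusedSectionVars false

namespace Cfsg.Agent.TwoF.DC.TBD

open Finset Matrix Sum Cfsg.Agent.TwoF.DC.TC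

variable {m : ℕ}

/-! ### counting roots -/

theorem card_pairs (S : Finset (PD m)) :
    (S.image (fun b => b.1) ∪ S.image fun b => b.1.swap).card = 2 * S.card := by
  rw [card_union_of_disjoint, card_image_of_injective _ Subtype.val_injective,
    card_image_of_injective _ fun a b e => Subtype.ext (Prod.swap_injective e), two_mul S.card]
  refine disjoint_left.2 fun x h1 h2 => ?_
  obtain ⟨a, -, rfl⟩ := mem_image.1 h1
  obtain ⟨b, -, e⟩ := mem_image.1 h2
  have h3 := a.2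
  have h4 := b.2
  rw [← e] at h3
  simp only [Prod.fst_swap, Prod.snd_swap] at h3
  omega

theorem mem_pairs {S : Finset (PD m)} {x : II m × II m} :
    x ∈ S.image (fun b => b.1) ∪ S.image (fun b => b.1.swap) ↔ ∃ b ∈ S, IsD b x.1 x.2 := by
  simp only [mem_union, mem_image, IsD, and_or_left, exists_or, Prod.swap_eq_iff_eq_swap]
  rfl

theorem card_offDiag' (X : Finset (II m)) : X.offDiag.card = X.card * (X.card - 1) := by
  rw [offDiag_card, Nat.mul_sub_one]

/-- roots with both indices in `X` -/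
theorem card_inside {S : Finset (PD m)} {X : Finset (II m)} (h : ∀ b ∈ S, b.1.1 ∈ X ∧ b.1.2 ∈ X) :
    2 * S.card ≤ X.card * (X.card - 1) := by
  rw [← card_pairs, ← card_offDiag']
  refine card_le_card fun x hx => ?_
  obtain ⟨b, hb, e⟩ := mem_pairs.1 hx
  have h1 := h b hb
  rw [mem_offDiag]
  refine ⟨?_, ?_, e.ne'⟩ <;> rcases e with e | e <;> rw [e] at h1
  exacts [h1.1, h1.2, h1.2, h1.1]

theorem card_full {S : Finset (PD m)} {X : Finset (II m)} (h : ∀ x ∈ X, ∀ y ∈ X, x ≠ y → ∃ b ∈ S, IsD b x y) :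
    X.card * (X.card - 1) ≤ 2 * S.card := by
  rw [← card_pairs, ← card_offDiag']
  refine card_le_card fun x hx => ?_
  rw [mem_offDiag] at hx
  exact mem_pairs.2 (h _ hx.1 _ hx.2.1 hx.2.2)

theorem card_ps_lt {t : ℕ} (ht : t ≤ m) : (univ.filter fun a : II m => ps a < t).card = t := by
  refine (card_bij (fun a _ => ps a) (fun a ha => mem_range.2 (mem_filter.1 ha).2) (fun a _ b _ => ps_inj)
    fun n hn => ?_).trans (card_range t)
  rw [mem_range] at hn
  exact ⟨inl ⟨n, hn.trans_le ht⟩, mem_filter.2 ⟨mem_univ _, hn⟩, rfl⟩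

/-- the roots `ε_i + ε_j`, `i < j ≤ t` -/
theorem card_lt {t : ℕ} (ht : t ≤ m) : 2 * (univ.filter fun b : PD m => ps b.1.2 < t).card = t * (t - 1) := by
  have h1 := card_ps_lt ht
  rw [← h1]
  conv_lhs => rw [h1]
  refine le_antisymm (card_inside fun b hb => ?_) (card_full fun x hx y hy e => ?_)
  · have := b.2
    simp only [mem_filter, mem_univ, true_and] at hb ⊢
    omega
  · simp only [mem_filter, mem_univ, true_and] at hx hy ⊢
    obtain ⟨b, hb⟩ := exists_isD e (by omega)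
    refine ⟨b, ?_, hb⟩
    rcases hb with hb | hb <;> rw [hb] <;> assumption

theorem card_On : 2 * (On m).card = (m - 1) * (m - 2) := by
  rw [show m - 2 = m - 1 - 1 from rfl, ← card_lt (Nat.sub_le m 1), On]
  congr 2
  exact filter_congr fun b _ => by omega

theorem mem_On {b : PD m} : b ∈ On m ↔ ps b.1.2 + 1 < m := by simp only [On, _root_.Finset.mem_filter, _root_.Finset.mem_univ, _root_.true_and]
theorem mem_Me {a : II m} {b : PD m} : b ∈ Me a ↔ ps b.1.2 + 1 < m ∨ b.1.2 = a := by simp only [Me, _root_.Finset.mem_filter, _root_.Finset.mem_univ, _root_.true_and]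
theorem fst_mem_Ix {S : Finset (PD m)} {b : PD m} (h : b ∈ S) : b.1.1 ∈ Ix S := mem_Ix.2 ⟨b, h, Or.inl rfl⟩
theorem snd_mem_Ix {S : Finset (PD m)} {b : PD m} (h : b ∈ S) : b.1.2 ∈ Ix S := mem_Ix.2 ⟨b, h, Or.inr rfl⟩
theorem IsD.mem_Ix {S : Finset (PD m)} {b : PD m} {x y : II m} (e : IsD b x y) (h : b ∈ S) : x ∈ Ix S :=
  mem_Ix'.2 ⟨b, h, y, e⟩

theorem IsD.iff {b : PD m} {x : II m} : (∃ y, IsD b x y) ↔ x = b.1.1 ∨ x = b.1.2 := by
  refine ⟨?_, ?_⟩
  · rintro ⟨y, h | h⟩ <;> rw [h] <;> simp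
  · rintro (rfl | rfl)
    exacts [⟨_, IsD.self b⟩, ⟨_, (IsD.self b).symm⟩]

/-! ### abelian sets of roots -/

/-- an abelian set of roots: the roots through `x` and through `-x` are `u + x`, `u - x` -/
def AbG (S : Finset (PD m)) : Prop := ∀ b ∈ S, ∀ b' ∈ S, ∀ x u v : II m, IsD b u x → IsD b' v x.swap → u = v

theorem abG [Fact (2 ≤ m)] {p : ℕ} (hp : p ≠ 1) {S : Finset (PD m)} (h : (eD m).rc.Ab p S) : AbG S :=
  fun b hb b' hb' x u v h1 h2 => by
  by_contra e
  refine (abD hp).1 h b hb b' hb' u v e ?_ ?_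
  · have := h1.lt
    have := h2.lt
    have := ps_swap x
    rw [Ne, eq_swap_iff]
    omega
  · rw [h1.rd, h2.rd, wv_swap]; abel

/-- the indices `x` with `-x` not an index -/
def I1 (S : Finset (PD m)) : Finset (II m) := (Ix S).filter fun x => x.swap ∉ Ix S
/-- the indices `x` with `-x` an index -/
def I2 (S : Finset (PD m)) : Finset (II m) := (Ix S).filter fun x => x.swap ∈ Ix S

theorem card_I (S : Finset (PD m)) : (I2 S).card + (I1 S).card = (Ix S).card := card_filter_add_card_filter_not _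

theorem card_I_le (S : Finset (PD m)) : (Ix S).card + (I1 S).card ≤ 2 * m := by
  rw [← card_image_of_injective (I1 S) fun a b (e : a.swap = b.swap) => swap_inj.1 e, ← card_union_of_disjoint]
  · exact (card_le_univ _).trans (by rw [Fintype.card_sum, Fintype.card_fin, two_mul])
  refine disjoint_right.2 fun x hx => ?_
  obtain ⟨y, hy, rfl⟩ := mem_image.1 hx
  exact (mem_filter.1 hy).2

namespace AbG

variable {S : Finset (PD m)} (h : AbG S)
include h

/-- there is one root through `x` -/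
theorem uniq {x : II m} (hx : x.swap ∈ Ix S) {b b' : PD m} (hb : b ∈ S) (hb' : b' ∈ S) {y y' : II m}
    (e : IsD b x y) (e' : IsD b' x y') : b = b' := by
  obtain ⟨c, hc, z, e''⟩ := mem_Ix'.1 hx
  rw [h b hb c hc x y z e.symm e''.symm] at e
  rw [h b' hb' c hc x y' z e'.symm e''.symm] at e'
  exact e.uniq e'

theorem I1_pos (h2 : 0 < (I2 S).card) : 0 < (I1 S).card := by
  obtain ⟨x, hx⟩ := card_pos.1 h2
  obtain ⟨b, hb, y, e⟩ := mem_Ix'.1 (mem_filter.1 hx).1
  obtain ⟨b', hb', y', e'⟩ := mem_Ix'.1 (mem_filter.1 hx).2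
  obtain rfl := h b hb b' hb' x y y' e.symm e'.symm
  refine card_pos.2 ⟨y, mem_filter.2 ⟨e.symm.mem_Ix hb, fun hy => ?_⟩⟩
  obtain ⟨c, hc, z, e''⟩ := mem_Ix'.1 hy
  exact swap_ne x ((h b' hb' c hc y _ z e' e''.symm).trans (h b hb c hc y _ z e e''.symm).symm)

/-- the basic bound -/
theorem le₀ : 2 * S.card ≤ (I1 S).card * ((I1 S).card - 1) + 2 * (I2 S).card := by
  rw [← card_filter_add_card_filter_not (s := S) fun b => b.1.1 ∈ I1 S ∧ b.1.2 ∈ I1 S, mul_add]
  refine add_le_add (card_inside fun b hb => (mem_filter.1 hb).2) (Nat.mul_le_mul_left 2 ?_)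
  refine (card_le_card (t := (I2 S).biUnion fun x => S.filter fun b => x = b.1.1 ∨ x = b.1.2) fun b hb => ?_).trans
    ((card_biUnion_le_card_mul _ _ 1 fun x hx => card_le_one.2 fun b hb b' hb' => ?_).trans (mul_one _).le)
  · obtain ⟨h1, h2⟩ := mem_filter.1 hb
    have h3 := fst_mem_Ix h1
    have h4 := snd_mem_Ix h1
    simp only [I1, mem_filter, h3, h4, true_and, not_and_or, not_not] at h2
    rcases h2 with h2 | h2
    · exact mem_biUnion.2 ⟨_, mem_filter.2 ⟨h3, h2⟩, mem_filter.2 ⟨h1, Or.inl rfl⟩⟩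
    · exact mem_biUnion.2 ⟨_, mem_filter.2 ⟨h4, h2⟩, mem_filter.2 ⟨h1, Or.inr rfl⟩⟩
  · rw [mem_filter, ← IsD.iff] at hb hb'
    obtain ⟨h1, y, e⟩ := hb
    obtain ⟨h2, y', e'⟩ := hb'
    exact h.uniq (mem_filter.1 hx).2 h1 h2 e e'

theorem num : ∃ u r : ℕ, u = (I1 S).card ∧ r = (I2 S).card ∧ (Ix S).card = r + u ∧ r + 2 * u ≤ 2 * m ∧ (0 < r → 0 < u) ∧
    2 * S.card + u ≤ u * u + 2 * r := by
  have h1 := card_I S
  have h2 := card_I_le S
  have h3 := h.le₀
  rw [Nat.mul_sub_one] at h3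
  have h4 := Nat.le_mul_self (I1 S).card
  exact ⟨_, _, rfl, rfl, h1.symm, by omega, h.I1_pos, by omega⟩

theorem le₁ (h4 : 4 ≤ m) : 2 * S.card ≤ m * (m - 1) := by
  obtain ⟨u, r, -, -, -, h1, h2, h3⟩ := h.num
  obtain ⟨n, rfl⟩ := Nat.exists_eq_add_of_le' (show 1 ≤ m by omega)
  rw [Nat.add_sub_cancel]
  rcases r.eq_zero_or_pos with rfl | h0
  · nlinarith
  · have := h2 h0
    nlinarith only [h4, h1, h3, mul_nonneg (show (0 : ℤ) ≤ u - 1 by omega) (show (0 : ℤ) ≤ n - u by omega)]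

theorem le₂ (h4 : 3 ≤ m) : 2 * S.card ≤ (m - 1) * (Ix S).card := by
  obtain ⟨u, r, -, -, h0, h1, -, h3⟩ := h.num
  obtain ⟨n, rfl⟩ := Nat.exists_eq_add_of_le' (show 1 ≤ m by omega)
  rw [Nat.add_sub_cancel, h0]
  nlinarith only [h4, h1, h3]

theorem eq_case [Fact (2 ≤ m)] (h4 : 4 ≤ m) (h0 : S.Nonempty) (he : (m - 1) * (Ix S).card ≤ 2 * S.card) :
    ∃ a : II m, (a = inl (lst m) ∨ a = inr (lst m)) ∧ a.swap ∉ Ix S ∧ m - 1 ≤ (S.filter fun b => b.1.2 = a).card := by
  obtain ⟨u, r, hu, hr, h1, h2, -, h3⟩ := h.num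
  have h5 : 0 < (Ix S).card := card_pos.2 ⟨_, fst_mem_Ix h0.choose_spec⟩
  obtain ⟨n, hn⟩ := Nat.exists_eq_add_of_le' (show 1 ≤ m by omega)
  have hn' : m - 1 = n := by omega
  rw [hn', h1] at he
  have h6 : r = 0 := by
    by_contra e
    nlinarith only [h4, h2, h3, he, hn, Nat.pos_of_ne_zero e]
  have h7 : u = m := by
    by_contra e
    nlinarith only [h1, h3, h5, he, h6, show u ≤ n by omega]
  have h8 : ∀ x ∈ Ix S, x.swap ∉ Ix S := fun x hx hx' => by
    have : 0 < (I2 S).card := card_pos.2 ⟨x, mem_filter.2 ⟨hx, hx'⟩⟩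
    omega
  have h9 : ∃ a : II m, (a = inl (lst m) ∨ a = inr (lst m)) ∧ a ∈ Ix S := by
    by_contra e
    have e1 : inl (lst m) ∉ Ix S := fun e' => e ⟨_, Or.inl rfl, e'⟩
    have e2 : inr (lst m) ∉ Ix S := fun e' => e ⟨_, Or.inr rfl, e'⟩
    have e3 : (Ix S ∪ (Ix S).image Sum.swap).card = 2 * m := by
      rw [card_union_of_disjoint, card_image_of_injective _ fun a b e => swap_inj.1 e]
      · omega
      refine disjoint_right.2 fun x hx => ?_
      obtain ⟨y, hy, rfl⟩ := mem_image.1 hx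
      exact h8 y hy
    have e4 := eq_univ_of_card _ (e3.trans (by rw [Fintype.card_sum, Fintype.card_fin, two_mul]))
    rcases mem_union.1 (e4 ▸ mem_univ (inl (lst m))) with e5 | e5
    · exact e1 e5
    · obtain ⟨y, hy, e6⟩ := mem_image.1 e5
      rw [eq_swap_comm.1 e6.symm] at hy
      exact e2 hy
  obtain ⟨a, ha, ha'⟩ := h9
  refine ⟨a, ha, h8 a ha', ?_⟩
  have h10 := card_filter_add_card_filter_not (s := S) fun b => b.1.2 = a
  have h11 := card_inside (S := S.filter fun b => ¬ b.1.2 = a) (X := (Ix S).erase a) fun b hb => by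
    obtain ⟨e1, e2⟩ := mem_filter.1 hb
    refine ⟨mem_erase.2 ⟨fun e => ?_, fst_mem_Ix e1⟩, mem_erase.2 ⟨e2, snd_mem_Ix e1⟩⟩
    have := b.lt
    rw [e] at this
    rcases ha with rfl | rfl <;> simp only [ps, lst_val] at this <;> omega
  rw [card_erase_of_mem ha', h1, h6, h7, zero_add, hn', Nat.mul_sub_one] at h11
  have h12 := Nat.le_mul_self n
  rw [h6, h7.trans hn, zero_add, Nat.mul_succ] at he
  omega

end AbG

variable [hm : Fact (2 ≤ m)]

theorem card_Me : 2 * (Me (inl (lst m))).card = m * (m - 1) := by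
  rw [← card_lt (le_refl m), Me]
  congr 2
  refine filter_congr fun b _ => ?_
  have := hm.out
  rw [ps_eq, ps_inl, lst_val]
  omega

/-! ### bounds for the half spin modules -/

theorem lt_lst {i : Fin m} (h : i ≠ lst m) : i < lst m := by
  have := i.2
  rw [Ne, Fin.ext_iff, lst_val] at h
  rw [Fin.lt_def, lst_val]
  omega

section HW

variable {p : ℕ} {k L : Type} [Field k] [AddCommGroup L] [Module k L] {H : HW (eD m).rc p k L}

theorem fst_ne_lst : fst m ≠ lst m := fun e => by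
  have h1 : 0 = m - 1 := congrArg Fin.val e
  have := hm.out
  omega

variable [Fact p.Prime] [CharP k p]

end HW

/-- **abelian sets of roots, natural and half spin modules** -/
theorem boxMin : BoxMin := fun p _ m _ h4 =>
  ⟨⟨card_Me, card_On⟩, fun _ h =>
    have h1 := abG (Fact.out : p.Prime).ne_one h
    ⟨h1.le₁ h4, h1.le₂ (by omega), card_inside fun _ hb => ⟨fst_mem_Ix hb, snd_mem_Ix hb⟩, h1.eq_case h4⟩,
    fun _ _ _ _ _ _ _ =>
    have h3 : 3 ≤ m := by omega
    ⟨fun h => ⟨nat_min h3 h, nat_d h3 h, nat_isWt h3 h, nat_c h3 h⟩, fun h => ⟨h.min, h.d_eq⟩⟩⟩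

end Cfsg.Agent.TwoF.DC.TBD
end

private theorem dce_1141b8ec8172 : _root_.True := by
  try have : _root_.True := by simp only [_root_.Cfsg.Agent.TwoF.DC.TBD.M1.eq_1]
  try have : _root_.True := by simp only [_root_.Cfsg.Agent.TwoF.DC.TBD.IsD.eq_1]
  try have : _root_.True := by simp only [_root_.Cfsg.Agent.TwoF.DC.TBD.fst.eq_1]
  try have : _root_.True := by simp only [_root_.Cfsg.Agent.TwoF.DC.TBD.sv.eq_1]
  try have : _root_.True := by simp only [_root_.Cfsg.Agent.TwoF.DC.TBD.fst.congr_simp]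
  try have : _root_.True := by simp only [_root_.Cfsg.Agent.TwoF.DC.TBD.On.eq_1]
  try have : _root_.True := by simp only [_root_.Cfsg.Agent.TwoF.DC.TBD.I1.eq_1]
  try have : _root_.True := by simp only [_root_.Cfsg.Agent.TwoF.DC.TBD.Me.eq_1]
  try have : _root_.True := by simp only [_root_.Cfsg.Agent.TwoF.DC.TBD.Ix.eq_1]
  exact _root_.True.intro
end

-- part: TwoF/DC/TBD/Main
section
prune_inst 0x80000000000502100000000400009000000000c0c00240020060000000890100001000000022081000000000000000000000000a0004000000002080825000b208010c840007800080400000000000000000000000000000000004000000000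
set_option linter.all false
open scoped Cfsg.Agent.FastGrp

-- part: TwoF/DC/TBD/BigV
section
/-!
# TwoF, defining characteristic, type D: orbits of vectors (helper78)
-/

set_option autoImplicit false
set_option linter.unusedSectionVars false

namespace Cfsg.Agent.TwoF.DC.TBD.Bg

open Finset Matrix Sum Cfsg.Agent.TwoF.DC.TC

theorem le_choose_mul {r : ℕ} (hr : 2 ≤ r) : ∀ n, r < n → 2 * (n * (n - 1)) ≤ n.choose r * 2 ^ r := by
  induction r, hr using Nat.le_induction with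
  | base =>
    intro n _
    have := Nat.choose_two_right n
    have h2 : 2 ∣ n * (n - 1) := (Nat.even_mul_pred_self n).two_dvd
    omega
  | succ r hr ih =>
    intro n hn
    obtain ⟨n, rfl⟩ : ∃ e, n = e + 3 := ⟨n - 3, by omega⟩
    have h1 := ih (n + 2) (by omega)
    rw [Nat.choose_succ_succ, add_mul, pow_succ]
    rw [show n + 2 - 1 = n + 1 from rfl] at h1
    rw [show n + 3 - 1 = n + 2 from rfl]
    have : 1 ≤ n := by omega
    nlinarith [Nat.zero_le ((n + 2).choose r.succ * (2 ^ r * 2))]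

variable {m : ℕ}

/-- `s` entries `± 2`, the others zero -/
def OS (s : ℕ) (y : Fin m → ℤ) : Prop :=
  (∀ i, y i = 0 ∨ y i = 2 ∨ y i = -2) ∧ (univ.filter fun i => y i ≠ 0).card = s

theorem OS.exists_zero {s : ℕ} {y : Fin m → ℤ} (h : OS s y) (X : Finset (Fin m)) (hX : s < X.card) :
    ∃ j ∈ X, y j = 0 := by
  obtain ⟨j, h1, h2⟩ := exists_mem_notMem_of_card_lt_card (h.2.trans_lt hX)
  exact ⟨j, h1, by simpa only [_root_.ne_eq, _root_.Finset.mem_filter, _root_.Finset.mem_univ, _root_.true_and, _root_.Decidable.not_not] using h2⟩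

theorem OS.wo {s : ℕ} (hs : s < m) {x y : Fin m → ℤ} (hx : OS s x) (hy : OS s y) : WO x y := by
  obtain ⟨π, hπ⟩ := Equiv.Perm.exists_map_finset_eq _ _ (hy.2.trans hx.2.symm)
  obtain ⟨j, -, hj⟩ := hx.exists_zero univ (by simpa only [_root_.Finset.card_univ, _root_.Fintype.card_fin] using hs)
  have h1 : y = sp π (fun i => if y i = x (π i) then 1 else -1) x := funext fun i => by
    have h2 : y i ≠ 0 ↔ x (π i) ≠ 0 := by
      have h3 := mem_map' π.toEmbedding (a := i) (s := univ.filter fun i => y i ≠ 0)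
      rw [hπ] at h3
      simpa only [_root_.ne_eq, _root_.Finset.mem_filter, _root_.Finset.mem_univ, _root_.true_and, _root_.Function.Embedding.coeFn_mk] using h3.symm
    have := hx.1 (π i)
    have := hy.1 i
    rw [sp_apply]
    split_ifs with h
    · rw [Units.val_one, one_mul, h]
    · rw [Units.val_neg, Units.val_one]
      omega
  rw [h1]
  exact wo_of_zero hj _ _

theorem OS.gV {s : ℕ} {y : Fin m → ℤ} (h : OS s y) : OS s (gV y) := by
  refine ⟨fun i => ?_, ?_⟩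
  · have := h.1 i
    simp only [TBD.gV]
    split_ifs <;> omega
  · rw [← h.2]
    congr 1
    refine filter_congr fun i _ => ?_
    simp only [TBD.gV]
    split_ifs <;> omega

theorem gV_inj : Function.Injective (gV (m := m)) := Function.LeftInverse.injective gV_gV

/-- support `T`, minus signs `U` -/
def vc (T U : Finset (Fin m)) : Fin m → ℤ := fun i => if i ∈ U then -2 else if i ∈ T then 2 else 0

theorem vc_neg {T U : Finset (Fin m)} {i : Fin m} : vc T U i = -2 ↔ i ∈ U := by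
  simp only [vc]
  split_ifs with h1 h2 <;> simp [h1]

theorem vc_ne {T U : Finset (Fin m)} (h : U ⊆ T) {i : Fin m} : vc T U i ≠ 0 ↔ i ∈ T := by
  simp only [vc]
  split_ifs with h1 h2
  · simp [h h1]
  · simp [h2]
  · simp [h2]

theorem vc_OS {T U : Finset (Fin m)} (h : U ⊆ T) : OS T.card (vc T U) := by
  refine ⟨fun i => ?_, congrArg card (ext fun i => by rw [mem_filter, vc_ne h]; simp only [_root_.Finset.mem_univ, _root_.true_and])⟩
  simp only [vc]
  split_ifs <;> omega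

theorem vc_inj {T U T' U' : Finset (Fin m)} (h : U ⊆ T) (h' : U' ⊆ T') (e : vc T U = vc T' U') : T = T' ∧ U = U' :=
  ⟨ext fun i => by rw [← vc_ne h, ← vc_ne h', e], ext fun i => by rw [← vc_neg (T := T), ← vc_neg (T := T'), e]⟩

theorem card_fam (I : Finset (Fin m)) (r c : ℕ) (f : Finset (Fin m) → Finset (Finset (Fin m)))
    (hf : ∀ T, T.card = r → (f T).card = c) : ((powersetCard r I).sigma f).card = I.card.choose r * c := by
  rw [card_sigma, sum_congr rfl fun T hT => hf T (mem_powersetCard.1 hT).2, sum_const, card_powersetCard, smul_eq_mul]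

theorem exO (m s : ℕ) : ∃ A : Finset (Fin m → ℤ), A.card = m.choose s * 2 ^ s ∧ ∀ y ∈ A, OS s y := by
  refine ⟨((powersetCard s univ).sigma powerset).image fun z => vc z.1 z.2, ?_, fun y hy => ?_⟩
  · rw [card_image_of_injOn, card_fam _ _ (2 ^ s) _ fun T hT => by rw [card_powerset, hT], card_univ, Fintype.card_fin]
    rintro ⟨T, U⟩ h ⟨T', U'⟩ h' e
    obtain ⟨rfl, rfl⟩ := vc_inj (mem_powerset.1 (mem_sigma.1 h).2) (mem_powerset.1 (mem_sigma.1 h').2) e
    rfl
  · obtain ⟨z, hz, rfl⟩ := mem_image.1 hy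
    exact (mem_powersetCard.1 (mem_sigma.1 hz).1).2 ▸ vc_OS (mem_powerset.1 (mem_sigma.1 hz).2)

theorem exA (a : Fin m) (r : ℕ) :
    ∃ A : Finset (Fin m → ℤ), A.card = (m - 1).choose r * 2 ^ r ∧ ∀ y ∈ A, OS (r + 1) y ∧ y a = -2 := by
  have h0 : ∀ z ∈ (powersetCard r (univ.erase a)).sigma powerset, z.2 ⊆ z.1 ∧ a ∉ z.1 ∧ z.1.card = r := fun z hz =>
    ⟨mem_powerset.1 (mem_sigma.1 hz).2, fun e => notMem_erase a _ ((mem_powersetCard.1 (mem_sigma.1 hz).1).1 e),
      (mem_powersetCard.1 (mem_sigma.1 hz).1).2⟩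
  refine ⟨((powersetCard r (univ.erase a)).sigma powerset).image fun z => vc (insert a z.1) (insert a z.2), ?_,
    fun y hy => ?_⟩
  · rw [card_image_of_injOn, card_fam _ _ (2 ^ r) _ fun T hT => by rw [card_powerset, hT],
      card_erase_of_mem (mem_univ _), card_univ, Fintype.card_fin]
    rintro ⟨T, U⟩ h ⟨T', U'⟩ h' e
    obtain ⟨h1, h2, -⟩ := h0 _ h
    obtain ⟨h3, h4, -⟩ := h0 _ h'
    obtain ⟨e1, e2⟩ := vc_inj (insert_subset_insert a h1) (insert_subset_insert a h3) e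
    obtain rfl : T = T' := (erase_insert h2).symm.trans ((congrArg (erase · a) e1).trans (erase_insert h4))
    obtain rfl : U = U' := (erase_insert (mt (@h1 a) h2)).symm.trans
      ((congrArg (erase · a) e2).trans (erase_insert (mt (@h3 a) h4)))
    rfl
  · obtain ⟨z, hz, rfl⟩ := mem_image.1 hy
    obtain ⟨h1, h2, h3⟩ := h0 _ hz
    exact ⟨by rw [← h3, ← card_insert_of_notMem h2]; exact vc_OS (insert_subset_insert a h1),
      vc_neg.2 (mem_insert_self _ _)⟩

theorem exB (X : Finset (Fin m)) (s : ℕ) : ∃ A : Finset (Fin m → ℤ), A.card = X.card.choose s * (2 ^ s - 1) ∧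
    ∀ y ∈ A, OS s y ∧ (∀ i ∉ X, y i = 0) ∧ ∃ j ∈ X, y j = -2 := by
  refine ⟨((powersetCard s X).sigma fun T => T.powerset.erase ∅).image fun z => vc z.1 z.2, ?_, fun y hy => ?_⟩
  · rw [card_image_of_injOn, card_fam _ _ (2 ^ s - 1) _ fun T hT => by
      rw [card_erase_of_mem (empty_mem_powerset _), card_powerset, hT]]
    rintro ⟨T, U⟩ h ⟨T', U'⟩ h' e
    obtain ⟨rfl, rfl⟩ := vc_inj (mem_powerset.1 (mem_of_mem_erase (mem_sigma.1 h).2))
      (mem_powerset.1 (mem_of_mem_erase (mem_sigma.1 h').2)) e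
    rfl
  · obtain ⟨z, hz, rfl⟩ := mem_image.1 hy
    obtain ⟨h1, h2⟩ := mem_powersetCard.1 (mem_sigma.1 hz).1
    obtain ⟨h3, h4⟩ := mem_erase.1 (mem_sigma.1 hz).2
    rw [mem_powerset] at h4
    obtain ⟨j, hj⟩ := nonempty_iff_ne_empty.2 h3
    exact ⟨h2 ▸ vc_OS h4, fun i hi => by_contra fun e => hi (h1 ((vc_ne h4).1 e)), j, h1 (h4 hj), vc_neg.2 hj⟩

/-- vectors with a negative pairing with some `ε_a + ε_j`, `j ∈ X` -/
theorem exN (a : Fin m) (X : Finset (Fin m)) (ha : a ∉ X) (r : ℕ) (hr : r < X.card) : ∃ A : Finset (Fin m → ℤ),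
    A.card = (m - 1).choose r * 2 ^ r + X.card.choose (r + 1) * (2 ^ (r + 1) - 1) ∧
      ∀ y ∈ A, OS (r + 1) y ∧ ∃ j ∈ X, y a + y j < 0 := by
  obtain ⟨A, a1, a2⟩ := exA a r
  obtain ⟨B, b1, b2⟩ := exB X (r + 1)
  refine ⟨A ∪ B, ?_, fun y hy => ?_⟩
  · rw [card_union_of_disjoint (disjoint_left.2 fun y h1 h2 => ?_), a1, b1]
    have := (a2 y h1).2
    have := (b2 y h2).2.1 a ha
    omega
  · rcases mem_union.1 hy with h | h
    · obtain ⟨h1, h2⟩ := a2 y h
      obtain ⟨j, h3, h4⟩ := h1.exists_zero (insert a X) (by rw [card_insert_of_notMem ha]; omega)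
      exact ⟨h1, j, (mem_insert.1 h3).resolve_left fun e => by rw [e] at h4; omega, by omega⟩
    · obtain ⟨h1, h2, j, h3, h4⟩ := b2 y h
      have := h2 a ha
      exact ⟨h1, j, h3, by omega⟩

theorem full_le {r : ℕ} (h4 : 4 ≤ m) (h1 : 1 ≤ r) (h2 : r + 1 < m) :
    m * (m - 1) + 3 ≤ (m - 1).choose r * 2 ^ r + (m - 1).choose (r + 1) * (2 ^ (r + 1) - 1) := by
  obtain ⟨n, rfl⟩ : ∃ n, m = n + 4 := ⟨m - 4, by omega⟩
  rw [show n + 4 - 1 = n + 3 from rfl]
  rcases h1.eq_or_lt with rfl | h1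
  · have h3 := Nat.choose_two_right (n + 3)
    have h5 : 2 ∣ (n + 3) * (n + 3 - 1) := (Nat.even_mul_pred_self _).two_dvd
    rw [show n + 3 - 1 = n + 2 from rfl] at h3 h5
    have h6 : 2 * (n + 3).choose 2 = (n + 3) * (n + 2) := by omega
    rw [Nat.choose_one_right, show (2 : ℕ) ^ (1 + 1) - 1 = 3 from rfl, show 1 + 1 = 2 from rfl]
    nlinarith only [h6]
  · have h3 := le_choose_mul h1 (n + 3) (by omega)
    have h5 : 1 ≤ (n + 3).choose (r + 1) := Nat.choose_pos (by omega)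
    have h6 : 2 ^ 3 ≤ 2 ^ (r + 1) := Nat.pow_le_pow_right two_pos (by omega)
    have h7 : 1 * 7 ≤ (n + 3).choose (r + 1) * (2 ^ (r + 1) - 1) := Nat.mul_le_mul h5 (by omega)
    rw [show n + 3 - 1 = n + 2 from rfl] at h3
    nlinarith only [h3, h7]

variable [hm : Fact (2 ≤ m)]

theorem wo_gV {x y : Fin m → ℤ} (h : WO x y) : WO (gV x) (gV y) := by
  obtain ⟨π, ε, h1, rfl⟩ := h
  let δ : Fin m → ℤˣ := Pi.mulSingle (lst m) (-1)
  have h2 : ∀ z, gV z = sp 1 δ z := fun z => funext fun i => by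
    have := i.2
    have := hm.out
    simp only [gV, sp_apply, δ, Pi.mulSingle_apply, Fin.ext_iff, lst_val, Equiv.Perm.one_apply]
    split_ifs <;> first | omega | simp
  refine ⟨π, δ * ε * δ ∘ π, ?_, funext fun i => ?_⟩
  · simp only [Pi.mul_apply, prod_mul_distrib, h1, mul_one, Function.comp_apply]
    rw [Equiv.prod_comp π δ, Int.units_mul_self]
  · rw [h2, h2]
    simp only [sp_apply, Pi.mul_apply, Function.comp_apply, Units.val_mul, Equiv.Perm.one_apply, mul_assoc,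
      Int.units_coe_mul_self, ← mul_assoc (δ (π i) : ℤ), one_mul]

/-- the vector `(3, 1, .., 1)` -/
def x3 (m : ℕ) [Fact (2 ≤ m)] : Fin m → ℤ := fun i => if i = fst m then 3 else 1

/-- the entry `± 3` at `a`, minus signs `U` outside the last place -/
def vb (a : Fin m) (U : Finset (Fin m)) : Fin m → ℤ :=
  sp (Equiv.swap (fst m) a) ((fun i => if i ∈ U then -1 else 1) *
    Pi.mulSingle (lst m) (∏ i, if i ∈ U then -1 else 1)) (x3 m)

theorem vb_wo (a : Fin m) (U : Finset (Fin m)) : WO (x3 m) (vb a U) :=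
  ⟨_, _, by simp only [Pi.mul_apply, prod_mul_distrib, prod_pi_mulSingle', mem_univ, if_true, Int.units_mul_self], rfl⟩

theorem vb_apply (a : Fin m) (U : Finset (Fin m)) {i : Fin m} (h : i ≠ lst m) :
    vb a U i = if i ∈ U then (if i = a then -3 else -1) else if i = a then 3 else 1 := by
  have h1 : Equiv.swap (fst m) a i = fst m ↔ i = a := by rw [Equiv.swap_apply_eq_iff, Equiv.swap_apply_left]
  simp only [vb, sp_apply, Pi.mul_apply, Pi.mulSingle_eq_of_ne h, mul_one, x3, h1]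
  split_ifs <;> simp

theorem vb_inj {a a' : Fin m} {U U' : Finset (Fin m)} (h : lst m ∉ U) (h' : lst m ∉ U') (e : vb a U = vb a' U') :
    a = a' ∧ U = U' := by
  have h1 : ∀ i ≠ lst m, (i = a ↔ i = a') ∧ (i ∈ U ↔ i ∈ U') := fun i hi => by
    have h2 := congrFun e i
    rw [vb_apply _ _ hi, vb_apply _ _ hi] at h2
    split_ifs at h2 <;> first | (clear * - h2; omega) | itauto
  refine ⟨?_, ext fun i => ?_⟩
  · by_cases h2 : a = lst m
    · by_cases h3 : a' = lst m
      · rw [h2, h3]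
      · exact ((h1 a' h3).1.2 rfl).symm
    · exact (h1 a h2).1.1 rfl
  · by_cases h2 : i = lst m
    · rw [h2]
      exact iff_of_false h h'
    · exact (h1 i h2).2

theorem exO3 (m : ℕ) [Fact (2 ≤ m)] : ∃ A : Finset (Fin m → ℤ), A.card = m * 2 ^ (m - 1) ∧ ∀ y ∈ A, WO (x3 m) y := by
  refine ⟨(univ ×ˢ (univ.erase (lst m)).powerset).image fun z => vb z.1 z.2, ?_, fun y hy => ?_⟩
  · rw [card_image_of_injOn, card_product, card_powerset, card_erase_of_mem (mem_univ _), card_univ, Fintype.card_fin]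
    rintro ⟨a, U⟩ h ⟨a', U'⟩ h' e
    obtain ⟨rfl, rfl⟩ := vb_inj (fun e => notMem_erase _ _ (mem_powerset.1 (mem_product.1 h).2 e))
      (fun e => notMem_erase _ _ (mem_powerset.1 (mem_product.1 h').2 e)) e
    rfl
  · obtain ⟨z, -, rfl⟩ := mem_image.1 hy
    exact vb_wo _ _

theorem fst_ne_lst : fst m ≠ lst m := fun e => by
  have := hm.out
  have h := congrArg Fin.val e
  rw [lst_val, show (fst m).1 = 0 from rfl] at h
  omega

theorem exN3 (h3 : 3 ≤ m) : ∃ A : Finset (Fin m → ℤ), A.card = m * (2 ^ (m - 2) - 1) + 1 ∧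
    ∀ y ∈ A, WO (x3 m) y ∧ ∃ j, j ≠ fst m ∧ j ≠ lst m ∧ y (fst m) + y j < 0 := by
  obtain ⟨I, hI⟩ : ∃ I, I = (univ.erase (lst m)).erase (fst m) := ⟨_, rfl⟩
  have h0 : ∀ j, j ∈ I ↔ j ≠ fst m ∧ j ≠ lst m := fun j => by simp only [hI, _root_.Finset.mem_erase, _root_.ne_eq, _root_.Finset.mem_univ, _root_.and_true]
  have h1 : I.card = m - 2 := by
    rw [hI, card_erase_of_mem (mem_erase.2 ⟨fst_ne_lst, mem_univ _⟩), card_erase_of_mem (mem_univ _), card_univ,
      Fintype.card_fin]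
    rfl
  have h2 : ∀ z ∈ insert (fst m, ∅) (univ ×ˢ I.powerset.erase ∅), z.2 ⊆ I ∧ (z.1 = fst m ∨ z.2.Nonempty) :=
    fun z hz => by
      rcases mem_insert.1 hz with rfl | hz
      · exact ⟨empty_subset _, Or.inl rfl⟩
      · obtain ⟨h4, h5⟩ := mem_erase.1 (mem_product.1 hz).2
        exact ⟨mem_powerset.1 h5, Or.inr (nonempty_iff_ne_empty.2 h4)⟩
  refine ⟨(insert (fst m, ∅) (univ ×ˢ I.powerset.erase ∅)).image fun z => vb z.1 (insert (fst m) z.2), ?_,
    fun y hy => ?_⟩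
  · rw [card_image_of_injOn, card_insert_of_notMem fun e => notMem_erase _ _ (mem_product.1 e).2, card_product,
      card_erase_of_mem (empty_mem_powerset _), card_powerset, h1, card_univ, Fintype.card_fin]
    rintro ⟨a, U⟩ h ⟨a', U'⟩ h' e
    have h4 : ∀ W ⊆ I, lst m ∉ insert (fst m) W := fun W hW e =>
      (mem_insert.1 e).elim fst_ne_lst.symm fun e => ((h0 _).1 (hW e)).2 rfl
    obtain ⟨rfl, e1⟩ := vb_inj (h4 _ (h2 _ h).1) (h4 _ (h2 _ h').1) e
    obtain rfl : U = U' := (erase_insert fun e => ((h0 _).1 ((h2 _ h).1 e)).1 rfl).symm.trans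
      ((congrArg (erase · (fst m)) e1).trans (erase_insert fun e => ((h0 _).1 ((h2 _ h').1 e)).1 rfl))
    rfl
  · obtain ⟨⟨a, U⟩, hz, rfl⟩ := mem_image.1 hy
    obtain ⟨h4, h5⟩ := h2 _ hz
    refine ⟨vb_wo _ _, ?_⟩
    rcases h5 with h5 | ⟨j, hj⟩
    · obtain ⟨j, hj⟩ := card_pos.1 (show 0 < I.card by omega)
      obtain ⟨h6, h7⟩ := (h0 j).1 hj
      refine ⟨j, h6, h7, ?_⟩
      rw [h5, vb_apply _ _ fst_ne_lst, vb_apply _ _ h7, if_pos (mem_insert_self _ _), if_pos rfl]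
      simp only [if_neg h6]
      split_ifs <;> omega
    · obtain ⟨h6, h7⟩ := (h0 j).1 (h4 hj)
      refine ⟨j, h6, h7, ?_⟩
      rw [vb_apply _ _ fst_ne_lst, vb_apply _ _ h7, if_pos (mem_insert_self _ _), if_pos (mem_insert_of_mem hj)]
      split_ifs <;> omega

/-! ### ideals -/

theorem up {p : ℕ} (hp : p ≠ 1) {S : Finset (PD m)} (hI : (eD m).rc.Idl p S) {a b : PD m} {x x' y : II m} (hb : b ∈ S)
    (h1 : IsD b x y) (h2 : IsD a x' y) (h3 : ps x' < ps x) (h4 : x' ≠ x.swap) : a ∈ S := by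
  have := ps_swap x
  obtain ⟨β, hβ⟩ := exists_isD h4 (by omega)
  exact idlD hp hI β hb (by rw [h1.rd, h2.rd, hβ.rd, wv_swap]; abel)

theorem top_row {p : ℕ} (hp : p ≠ 1) {S : Finset (PD m)} (hI : (eD m).rc.Idl p S) {b : PD m} (hb : b ∈ S) :
    ∃ a ∈ S, IsD a (inl (fst m)) b.1.2 := by
  have h1 := b.2
  by_cases h : ps b.1.1 = 0
  · exact ⟨b, hb, (show inl (fst m) = b.1.1 from ps_inj h.symm) ▸ IsD.self b⟩
  · obtain ⟨a, ha⟩ := exists_isD (x := inl (fst m)) (y := b.1.2) (by rw [Ne, ps_eq]; show 0 ≠ _; omega)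
      (by show 0 + _ + 1 < _; omega)
    exact ⟨a, up hp hI hb (IsD.self b) ha (by show 0 < _; omega) (by rw [Ne, eq_swap_iff]; show 0 + _ + 1 ≠ _; omega),
      ha⟩

theorem row_le {p : ℕ} (hp : p ≠ 1) {S : Finset (PD m)} (hI : (eD m).rc.Idl p S) {a : PD m} (ha : a ∈ S) {y : II m}
    (h1 : IsD a (inl (fst m)) y) (j : Fin m) (h : fst m < j) (h2 : j.1 ≤ ps y) (h3 : j.1 + ps y + 1 ≠ 2 * m) :
    dp (fst m) j h ∈ S := by
  rcases h2.eq_or_lt with h2 | h2
  · rw [show y = inl j from ps_inj h2.symm] at h1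
    exact IsD.uniq h1 (IsD.self (dp (fst m) j h)) ▸ ha
  · exact up hp hI ha h1.symm (IsD.self (dp (fst m) j h)).symm h2 (by rw [Ne, eq_swap_iff]; exact h3)

/-- an ideal which is not full -/
theorem shape {p : ℕ} (hp : p ≠ 1) {S : Finset (PD m)} (hI : (eD m).rc.Idl p S) (hF : ¬ FullS S) :
    ∃ u, u + 2 ≤ m ∧ (∀ j (h : fst m < j), j.1 ≤ u → dp (fst m) j h ∈ S) ∧ 2 * S.card ≤ (u + 1) * u := by
  have h0 := hm.out
  have hl : fst m < lst m := Fin.lt_def.2 (by rw [lst_val]; show 0 < _; omega)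
  have h1 : ∀ b ∈ S, ps b.1.2 + 2 ≤ m := fun b hb => by
    by_contra h
    obtain ⟨a, ha, h2⟩ := top_row hp hI hb
    by_cases h3 : ps b.1.2 = m
    · rw [show b.1.2 = inr (lst m) from ps_inj (by rw [h3, ps_inr, lst_val]; omega)] at h2
      refine hF ⟨fun j hj h4 => row_le hp hI ha h2 j hj ?_ ?_, hl,
        Or.inr (IsD.uniq h2 (IsD.self (dm (fst m) (lst m) hl)) ▸ ha)⟩ <;> rw [ps_inr, lst_val] <;> (clear * - hm h0 h3 h4; omega)
    · have h4 := row_le hp hI ha h2 (lst m) hl (by rw [lst_val]; omega) (by rw [lst_val]; omega)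
      refine hF ⟨fun j hj h5 => row_le hp hI h4 (IsD.self _) j hj ?_ ?_, hl, Or.inl h4⟩ <;>
        rw [show ps (dp (fst m) (lst m) hl).1.2 = m - 1 from rfl] <;> omega
  rcases S.eq_empty_or_nonempty with rfl | hS
  · exact ⟨0, by omega, fun j h h2 => absurd (Fin.lt_def.1 h) (by show ¬ 0 < _; omega), by simp⟩
  obtain ⟨b, hb, h2⟩ := exists_max_image S (fun b => ps b.1.2) hS
  obtain ⟨a, ha, h3⟩ := top_row hp hI hb
  have h4 := h1 b hb
  refine ⟨ps b.1.2, h4, fun j h h5 => row_le hp hI ha h3 j h h5 (by omega), ?_⟩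
  have h5 := card_le_card_of_injOn (s := S) (t := (range (ps b.1.2 + 1)).sigma range)
    (fun c => (⟨ps c.1.2, ps c.1.1⟩ : Σ _ : ℕ, ℕ))
    (fun c hc => mem_coe.2 (mem_sigma.2 ⟨mem_range.2 (Nat.lt_succ_of_le (h2 c hc)), mem_range.2 c.2.1⟩))
    fun c _ d _ e => PD.ext' (eq_of_heq (Sigma.mk.inj e).2) (Sigma.mk.inj e).1
  have h6 := sum_range_id_mul_two (ps b.1.2 + 1)
  simp only [card_sigma, card_range] at h5
  rw [Nat.add_sub_cancel] at h6
  omega

end Cfsg.Agent.TwoF.DC.TBD.Bg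
end

-- part: TwoF/DC/TBD/Big
section
/-!
# TwoF, defining characteristic, type D: the modules which are not minuscule are large (helper78)
-/

set_option autoImplicit false
set_option linter.unusedSectionVars false

namespace Cfsg.Agent.TwoF.DC.TBD.Bg

open Finset Matrix Sum Module Cfsg.Agent.TwoF.DC.TC

theorem le_two_pow {m : ℕ} (h : 4 ≤ m) : m ≤ 2 ^ (m - 2) := by
  induction m, h using Nat.le_induction with
  | base => norm_num
  | succ n hn ih =>
    rw [show n + 1 - 2 = n - 2 + 1 by omega, pow_succ]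
    omega

variable {m : ℕ} [hm : Fact (2 ≤ m)]

theorem fst_val : (fst m).1 = 0 := rfl

theorem fw_OS {l : Fin m} (h : l.1 + 2 < m) : OS (l.1 + 1) (fw l) := by
  have h1 : fw l = vc (Iic l) ∅ := funext fun i => by
    simp only [fw, vc, if_pos h, notMem_empty, if_false, mem_Iic, Fin.le_def]
  rw [h1, ← Fin.card_Iic]
  exact vc_OS (empty_subset _)

theorem fw_pen_lst : OS (m - 2 + 1) (fw (pen m) + fw (lst m)) := by
  have h0 := hm.out
  have h1 : fw (pen m) + fw (lst m) = vc (univ.erase (lst m)) ∅ := funext fun i => by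
    have := i.2
    simp only [fw, vc, notMem_empty, if_false, mem_erase, mem_univ, and_true, Pi.add_apply, pen_val, lst_val, Ne,
      Fin.ext_iff]
    (first | (lia; done) | (split_ifs <;> omega))
  have h2 := vc_OS (empty_subset (univ.erase (lst m)))
  rwa [card_erase_of_mem (mem_univ _), card_univ, Fintype.card_fin, ← h1, show m - 1 = m - 2 + 1 by omega] at h2

theorem fw_fst_lst (h : 3 ≤ m) : fw (fst m) + fw (lst m) = x3 m := funext fun i => by
  have := i.2
  simp only [fw, x3, Pi.add_apply, fst_val, lst_val, Fin.ext_iff]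
  (first | (lia; done) | (split_ifs <;> omega))

theorem fw_fst_pen (h : 3 ≤ m) : fw (fst m) + fw (pen m) = gV (x3 m) := funext fun i => by
  have := i.2
  simp only [fw, x3, gV, Pi.add_apply, fst_val, pen_val, Fin.ext_iff]
  (first | (lia; done) | (split_ifs <;> omega))

theorem gV_of_ne (y : Fin m → ℤ) {i : Fin m} (h : i ≠ lst m) : gV y i = y i :=
  if_neg fun e => h (Fin.ext (by rw [lst_val]; omega))

theorem gV_lst (y : Fin m → ℤ) : gV y (lst m) = -y (lst m) := if_pos (by have := hm.out; rw [lst_val]; omega)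

theorem fst_lt {j : Fin m} (h : j ≠ fst m) : fst m < j :=
  Fin.lt_def.2 (Nat.pos_of_ne_zero fun e => h (Fin.ext e))

theorem lt_lst {j : Fin m} (h : j ≠ lst m) : j < lst m := by
  have := j.2
  have : j.1 ≠ m - 1 := fun e => h (Fin.ext e)
  rw [Fin.lt_def, lst_val]
  omega

theorem succ_lt {j : Fin m} (h : j ≠ lst m) : j.1 + 1 < m := by
  have := Fin.lt_def.1 (lt_lst h)
  rw [lst_val] at this
  omega

variable {p : ℕ} {k L : Type} [Field k] [AddCommGroup L] [Module k L] (H : HW (eD m).rc p k L)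

/-- the vectors with the property `O` and a negative pairing count for the codimension -/
def Cn (O : (Fin m → ℤ) → Prop) : Prop :=
  ∀ (S : Finset (PD m)) (A : Finset (Fin m → ℤ)), (∀ y ∈ A, O y ∧ ∃ b ∈ S, rd b ⬝ᵥ y < 0) → A.card ≤ H.cL S

/-- `x` is the vector of a dominant weight below the highest weight -/
def Bl (x : Fin m → ℤ) : Prop := ∃ μ, Dom μ ∧ (∀ i, μ i ≤ H.lam i) ∧ e2 μ = x

theorem bl_single {l : Fin m} (h : H.lam l ≠ 0) : Bl H (fw l) := ⟨_, HW.dom_single l, H.single_le h, e2_single l⟩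

theorem bl_pair {i j : Fin m} (h0 : i ≠ j) (h : H.lam i ≠ 0) (h' : H.lam j ≠ 0) : Bl H (fw i + fw j) := by
  refine ⟨Pi.single i 1 + Pi.single j 1, fun l => add_nonneg (HW.dom_single i l) (HW.dom_single j l), fun l => ?_,
    by rw [e2_add, e2_single, e2_single]⟩
  simp only [Pi.add_apply, Pi.single_apply]
  split_ifs with h1 h2 h2
  · exact absurd (h1.symm.trans h2) h0
  · rw [h1]; omega
  · rw [h2]; omega
  · omega

variable {H}

theorem Bl.le_d {x : Fin m → ℤ} (h : Bl H x) (A : Finset (Fin m → ℤ)) (hA : ∀ y ∈ A, WO x y) : A.card ≤ H.d := by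
  obtain ⟨μ, h1, h2, rfl⟩ := h
  exact card_le_dD H h1 h2 A hA

theorem Bl.le_fix {x : Fin m → ℤ} (h : Bl H x) {r : ℕ} (hx : OS (r + 1) x) (hr : r + 1 < m) (g : H.GOp (gN m) (gP m)) :
    (m - 1).choose r * 2 ^ r ≤ H.d - finrank k (LinearMap.ker (g.g.toLinearMap - 1)) := by
  obtain ⟨μ, h1, h2, rfl⟩ := h
  obtain ⟨A, a1, a2⟩ := exA (lst m) r
  obtain ⟨B, b1, b2⟩ := exists_wts A fun y hy => hx.wo hr (a2 y hy).1
  obtain ⟨C, c1, c2⟩ := TE.exists_ext H h1 h2 B fun ν hν => (b2 ν hν).1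
  rw [← a1, ← b1, ← c1]
  refine TE.card_le_codim_fix H g (fun ν => e2 ν (lst m) < 0) (fun ν h3 h4 => ?_) C fun ν₀ h3 => ?_
  · rw [e2_gN, gV_lst] at h4
    omega
  · obtain ⟨h4, ν, h5, h6⟩ := c2 ν₀ h3
    obtain ⟨h7, h8⟩ := a2 _ (b2 ν h5).2
    obtain ⟨j, -, hj⟩ := h7.exists_zero univ (by simpa only [_root_.Finset.card_univ, _root_.Fintype.card_fin] using hr)
    have h9 : j < lst m := lt_lst fun e => by rw [e] at hj; omega
    have e1 := h6 (true, dp j (lst m) h9) ((pair_neg_iff _ _).2 (by rw [dp_dot]; omega))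
    have e2' := h6 (false, dm j (lst m) h9) (by
      have := two_pair_true ν (dm j (lst m) h9)
      rw [dm_dot] at this
      rw [RC.pair_false]
      omega)
    rw [pair_neg_iff, dp_dot] at e1
    have e3 := two_pair_true ν₀ (dm j (lst m) h9)
    rw [dm_dot] at e3
    rw [RC.pair_false] at e2'
    exact ⟨h4.isWt, by omega⟩

theorem Cn.full {r : ℕ} (h : Cn H (OS (r + 1))) (h4 : 4 ≤ m) (h1 : 1 ≤ r) (h2 : r + 1 < m) {S : Finset (PD m)}
    (hS : FullS S) : m * (m - 1) + 3 ≤ H.cL S := by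
  have h3 : (univ.erase (fst m)).card = m - 1 := by rw [card_erase_of_mem (mem_univ _), card_univ, Fintype.card_fin]
  obtain ⟨A, a1, a2⟩ := exN (fst m) _ (notMem_erase _ univ) r (by omega)
  refine (full_le h4 h1 h2).trans ?_
  rw [h3] at a1
  rw [← a1]
  obtain ⟨s1, hl, s2 | s2⟩ := hS
  · refine h S A fun y hy => ?_
    obtain ⟨h5, j, h6, h7⟩ := a2 y hy
    refine ⟨h5, dp (fst m) j (fst_lt (ne_of_mem_erase h6)), ?_, by rwa [dp_dot]⟩
    by_cases h8 : j = lst m
    · subst h8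
      exact s2
    · exact s1 j _ (succ_lt h8)
  · rw [← card_image_of_injective A gV_inj]
    refine h S _ fun y hy => ?_
    obtain ⟨z, hz, rfl⟩ := mem_image.1 hy
    obtain ⟨h5, j, h6, h7⟩ := a2 z hz
    refine ⟨h5.gV, ?_⟩
    by_cases h8 : j = lst m
    · subst h8
      exact ⟨_, s2, by rw [dm_dot, gV_lst, gV_of_ne z fst_ne_lst]; omega⟩
    · exact ⟨_, s1 j (fst_lt (ne_of_mem_erase h6)) (succ_lt h8), by rwa [dp_dot, gV_of_ne z h8, gV_of_ne z fst_ne_lst]⟩

theorem Cn.part (h : Cn H (OS (1 + 1))) {S : Finset (PD m)} {u : ℕ} (h2 : 2 ≤ u) (h1 : u + 2 ≤ m)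
    (hS : ∀ j (h : fst m < j), j.1 ≤ u → dp (fst m) j h ∈ S) : (u + 1) * u + 3 ≤ H.cL S := by
  have h3 : (Ioc (fst m) ⟨u, by omega⟩).card = u := by rw [Fin.card_Ioc]; rfl
  obtain ⟨A, a1, a2⟩ := exN (fst m) (Ioc (fst m) ⟨u, by omega⟩) left_notMem_Ioc 1 (by omega)
  refine le_trans ?_ (h S A fun y hy => ?_)
  · rw [a1, h3, Nat.choose_one_right, show (2 : ℕ) ^ (1 + 1) - 1 = 3 from rfl, show 1 + 1 = 2 from rfl]
    obtain ⟨v, rfl⟩ : ∃ v, u = v + 2 := ⟨u - 2, by omega⟩
    have h5 := Nat.choose_two_right (v + 2)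
    have h6 : 2 ∣ (v + 2) * (v + 2 - 1) := (Nat.even_mul_pred_self _).two_dvd
    rw [show v + 2 - 1 = v + 1 from rfl] at h5 h6
    have h7 : 2 * (v + 2).choose 2 = (v + 2) * (v + 1) := by omega
    have h8 : v + 3 ≤ m - 1 := by omega
    nlinarith only [h7, h8]
  · obtain ⟨h5, j, h6, h7⟩ := a2 y hy
    exact ⟨h5, _, hS j (mem_Ioc.1 h6).1 (mem_Ioc.1 h6).2, by rwa [dp_dot]⟩

variable [Fact p.Prime] [CharP k p]

theorem Bl.cn {x : Fin m → ℤ} (h : Bl H x) : Cn H (WO x) := by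
  obtain ⟨μ, h1, h2, rfl⟩ := h
  exact fun S A hA => card_le_cLD H S h1 h2 A hA

theorem Bl.cn_OS {x : Fin m → ℤ} (h : Bl H x) {s : ℕ} (hx : OS s x) (hs : s < m) : Cn H (OS s) :=
  fun S A hA => h.cn S A fun y hy => ⟨hx.wo hs (hA y hy).1, (hA y hy).2⟩

/-- a multiple of a minuscule weight -/
theorem cn_mul {l l' : Fin m} (h0 : ∀ i, i ≠ l → H.lam i = 0) (h2 : 2 ≤ H.lam l) (hl : l'.1 + 2 < m)
    (h3 : ∀ b, rd b ⬝ᵥ fw l ≤ 2) (h4 : ∀ i, (eD m).rc.C i l = if i = l then 2 else if i = l' then -1 else 0)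
    (h5 : l ≠ l') : Cn H (OS (l'.1 + 1)) := fun S A hA => by
  have h6 : H.lz = (H.lam l : ℤ) • Pi.single l 1 := funext fun i => by
    rw [HW.lz_apply, Pi.smul_apply, Pi.single_apply]
    split_ifs with h
    · rw [h, smul_eq_mul, mul_one]
    · rw [h0 i h, smul_zero, Nat.cast_zero]
  obtain ⟨B, b1, b2⟩ := exists_wts (μ := Pi.single l' 1) A fun y hy => by
    rw [e2_single]
    exact (fw_OS hl).wo (by omega) (hA y hy).1
  rw [← b1]
  refine TE.card_le_cL_wt H (M := H.lam l) (fun b => ?_) (by exact_mod_cast H.lam_lt l) S (HW.dom_single l')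
    (μ' := ((H.lam l : ℤ) - 2) • Pi.single l 1) (fun i => mul_nonneg (by omega) (HW.dom_single l i)) ?_ B
    fun ν hν => ⟨(b2 ν hν).1, ?_⟩
  · have h7 := two_pair_true H.lz b
    rw [h6, e2_smul, e2_single, dotProduct_smul, smul_eq_mul, ← h6] at h7
    nlinarith only [hm, h7, h3 b]
  · have h7 := (xD H).isWt_sub H.ext_lz (x := (true, (eD m).rc.zi l))
      (by rw [RC.pair_zi, HW.lz_apply]; exact_mod_cast lt_of_lt_of_le two_pos h2)
    refine Eq.mp (congrArg H.IsWt (funext fun i => ?_)) h7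
    rw [Pi.sub_apply, RC.wt_zi, h4, h6]
    simp only [Pi.add_apply, Pi.smul_apply, Pi.single_apply, smul_eq_mul]
    split_ifs with e1 e2'
    · exact absurd (e1.symm.trans e2') h5
    all_goals ring
  · simp only [pair_neg_iff]
    exact (hA _ (b2 ν hν).2).2

variable (H)

theorem cases (h4 : 4 ≤ m) (hN : ¬ Nt H.lam) (hS : ¬ Spn H.lam) :
    (∃ r x, 1 ≤ r ∧ r + 1 < m ∧ OS (r + 1) x ∧ Bl H x) ∨
      (H.lam (pen m) ≠ H.lam (lst m) ∧ (Bl H (x3 m) ∨ Bl H (gV (x3 m)))) ∨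
      (p ≠ 2 ∧ ∃ r, 1 ≤ r ∧ r + 1 < m ∧ Cn H (OS (r + 1))) := by
  by_cases h1 : ∃ l : Fin m, 1 ≤ l.1 ∧ l.1 + 2 < m ∧ H.lam l ≠ 0
  · obtain ⟨l, h2, h3, h5⟩ := h1
    exact Or.inl ⟨l, _, h2, by omega, fw_OS h3, bl_single H h5⟩
  have n1 : pen m ≠ lst m := fun e => by have := congrArg Fin.val e; rw [pen_val, lst_val] at this; omega
  have n2 : fst m ≠ pen m := fun e => by have := congrArg Fin.val e; rw [pen_val, fst_val] at this; omega
  by_cases h2 : H.lam (pen m) ≠ 0 ∧ H.lam (lst m) ≠ 0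
  · exact Or.inl ⟨m - 2, _, by omega, by omega, fw_pen_lst, bl_pair H n1 h2.1 h2.2⟩
  by_cases h3 : H.lam (fst m) ≠ 0 ∧ H.lam (lst m) ≠ 0
  · exact Or.inr (Or.inl ⟨by omega, Or.inl (fw_fst_lst (m := m) (by omega) ▸ bl_pair H fst_ne_lst h3.1 h3.2)⟩)
  by_cases h5 : H.lam (fst m) ≠ 0 ∧ H.lam (pen m) ≠ 0
  · exact Or.inr (Or.inl ⟨by omega, Or.inr (fw_fst_pen (m := m) (by omega) ▸ bl_pair H n2 h5.1 h5.2)⟩)
  obtain ⟨l, hl⟩ := H.exists_lam_pos
  have h6 : ∀ i, H.lam i ≠ 0 → i = fst m ∨ i = pen m ∨ i = lst m := fun i hi => by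
    have := i.2
    have h7 : ¬ (1 ≤ i.1 ∧ i.1 + 2 < m) := fun e => h1 ⟨i, e.1, e.2, hi⟩
    simp only [Fin.ext_iff, fst_val, pen_val, lst_val]
    omega
  have h7 : ∀ i, i ≠ l → H.lam i = 0 := fun i hi => by
    by_contra h8
    rcases h6 i h8 with rfl | rfl | rfl <;> rcases h6 l hl.ne' with rfl | rfl | rfl <;> first | exact hi rfl | (clear * - hm h5 h8 hl hi h3 h2; omega)
  have h8 : 2 ≤ H.lam l := by
    by_contra h9
    have h10 : H.lam = Pi.single l 1 := funext fun i => by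
      rw [Pi.single_apply]
      split_ifs with h
      · rw [h]; omega
      · exact h7 i h
    rcases h6 l hl.ne' with rfl | rfl | rfl
    exacts [hN h10, hS (Or.inl h10), hS (Or.inr h10)]
  have h9 := H.lam_lt l
  have h10 : l.1 = 0 ∨ l.1 = m - 2 ∨ l.1 = m - 1 := by
    simpa only [Fin.ext_iff, fst_val, pen_val, lst_val] using h6 l hl.ne'
  obtain ⟨l', h11⟩ : ∃ l' : Fin m, l'.1 = if l.1 = 0 then 1 else m - 3 := 
    ⟨⟨if l.1 = 0 then 1 else m - 3, by split_ifs <;> omega⟩, rfl⟩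
  refine Or.inr (Or.inr ⟨by omega, l', by split_ifs at h11 <;> omega, by split_ifs at h11 <;> omega,
    cn_mul h7 h8 (by split_ifs at h11 <;> omega) (fun b => ?_) (fun i => ?_)
      fun e => by rw [e] at h10 h11; split_ifs at h11 <;> omega⟩)
  · have := b.2
    rw [rd_dot, xv_fw, xv_fw]
    split_ifs <;> omega
  · have := i.2
    rw [C_D_eq]
    simp only [Fin.ext_iff]
    split_ifs at h11 ⊢ <;> omega

end Cfsg.Agent.TwoF.DC.TBD.Bg

namespace Cfsg.Agent.TwoF.DC.TBD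

open Finset Module Bg

/-- **the modules which are not minuscule are large** -/
theorem boxBig (hM : BoxMin) : BoxBig := by
  intro p _ m _ h4 k L _ _ _ _ H hN hS
  have h0 := le_two_pow h4
  obtain ⟨n, hn⟩ : ∃ n, m = n + 4 := ⟨m - 4, by omega⟩
  have e1 : m - 1 = n + 3 := by omega
  have e2 : 2 ^ (m - 1) = 2 * 2 ^ (m - 2) := by rw [show m - 1 = m - 2 + 1 by omega, pow_succ']
  refine ⟨fun S hF => ?_, fun hp => ?_, fun hp hl g S hA hI => ?_⟩
  · rcases Bg.cases H h4 hN hS with ⟨r, x, h1, h2, h3, h5⟩ | ⟨-, h1⟩ | ⟨-, r, h1, h2, h3⟩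
    · have := (h5.cn_OS h3 h2).full h4 h1 h2 hF
      omega
    · obtain ⟨A, a1, a2⟩ := exN3 (m := m) (by omega)
      have h2 : m * (m - 1) < A.card := a1 ▸ Nat.lt_succ_of_le (Nat.mul_le_mul_left _ (by omega))
      refine h2.trans_le ?_
      rcases h1 with h1 | h1
      · refine h1.cn S A fun y hy => ?_
        obtain ⟨h3, j, h5, h6, h7⟩ := a2 y hy
        exact ⟨h3, _, hF.1 j (fst_lt h5) (succ_lt h6), by rwa [dp_dot]⟩
      · rw [← card_image_of_injective A gV_inj]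
        refine h1.cn S _ fun y hy => ?_
        obtain ⟨z, hz, rfl⟩ := mem_image.1 hy
        obtain ⟨h3, j, h5, h6, h7⟩ := a2 z hz
        exact ⟨wo_gV h3, _, hF.1 j (fst_lt h5) (succ_lt h6), by rwa [dp_dot, gV_of_ne z h6, gV_of_ne z fst_ne_lst]⟩
    · have := h3.full h4 h1 h2 hF
      omega
  · rcases Bg.cases H h4 hN hS with ⟨r, x, h1, h2, h3, h5⟩ | ⟨-, h1⟩ | ⟨h1, -⟩
    · obtain ⟨A, a1, a2⟩ := exO m (r + 1)
      exact (le_choose_mul (by omega) m h2).trans (a1 ▸ h5.le_d A fun y hy => h3.wo h2 (a2 y hy))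
    · obtain ⟨A, a1, a2⟩ := exO3 m
      have h2 : 2 * (m * (m - 1)) ≤ A.card := by
        rw [a1, e2, mul_left_comm m]
        exact Nat.mul_le_mul_left _ (Nat.mul_le_mul_left _ (by omega))
      refine h2.trans ?_
      rcases h1 with h1 | h1
      · exact h1.le_d A a2
      · rw [← card_image_of_injective A gV_inj]
        refine h1.le_d _ fun y hy => ?_
        obtain ⟨z, hz, rfl⟩ := mem_image.1 hy
        exact wo_gV (a2 z hz)
    · exact absurd hp h1
  · rcases Bg.cases H h4 hN hS with ⟨r, x, h1, h2, h3, h5⟩ | ⟨h1, -⟩ | ⟨h1, -⟩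
    · by_cases hF : FullS S
      · have h6 := (h5.cn_OS h3 h2).full h4 h1 h2 hF
        have h7 := ((hM p m h4).2.1 S hA).1
        omega
      obtain ⟨u, u1, u2, u3⟩ := shape (Fact.out : p.Prime).ne_one hI hF
      have h6 := h5.le_fix h3 h2 g
      rcases h1.eq_or_lt with rfl | h1
      · by_cases h7 : 2 ≤ u
        · have := (h5.cn_OS h3 h2).part h7 u1 u2
          omega
        · rw [Nat.choose_one_right] at h6
          have h8 : (u + 1) * u ≤ 2 * 1 := Nat.mul_le_mul (by omega) (by omega)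
          omega
      · have h7 := le_choose_mul h1 (m - 1) (by omega)
        have h8 : (u + 1) * u ≤ (n + 3) * (n + 2) := Nat.mul_le_mul (by omega) (by omega)
        have h9 : 3 * 2 ≤ (n + 3) * (n + 2) := Nat.mul_le_mul (by omega) (by omega)
        rw [e1, show n + 3 - 1 = n + 2 from rfl] at h7
        rw [e1] at h6
        omega
    · refine absurd ?_ h1
      have h2 := congrFun hl (pen m)
      rw [gN_symm, Function.comp_apply, show gN m (pen m) = lst m from Equiv.swap_apply_left _ _] at h2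
      exact h2.symm
    · exact absurd hp h1

end Cfsg.Agent.TwoF.DC.TBD
end

-- part: TwoF/DC/TBD/MnA
section
/-!
# TwoF, defining characteristic, type D: abelian sets of roots as graphs (helper93, task 523)

`ES S` the edges (ordered pairs of signed indices), `ab_count` the structure of an abelian set, `ab_le`, `ab_le_Ix`,
`le_Ix`, `ab_eq`, `ab_extra` the bounds.
-/

set_option autoImplicit false
set_option linter.unusedSectionVars false

namespace Cfsg.Agent.TwoF.DC.TBD.Mn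

open Finset Matrix Sum Cfsg.Agent.TwoF.DC.TC

variable {m : ℕ}

/-- the ordered pairs of indices of the roots in `S` -/
def ES (S : Finset (PD m)) : Finset (II m × II m) := S.image (fun b => b.1) ∪ S.image fun b => b.1.swap

theorem mem_ES {S : Finset (PD m)} {z : II m × II m} : z ∈ ES S ↔ ∃ b ∈ S, IsD b z.1 z.2 := by
  simp only [ES, mem_union, mem_image]
  constructor
  · rintro (⟨b, hb, rfl⟩ | ⟨b, hb, rfl⟩)
    · exact ⟨b, hb, Or.inl rfl⟩
    · exact ⟨b, hb, Or.inr rfl⟩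
  · rintro ⟨b, hb, h | h⟩
    · exact Or.inl ⟨b, hb, h⟩
    · exact Or.inr ⟨b, hb, by rw [h]; rfl⟩

theorem card_ES (S : Finset (PD m)) : (ES S).card = 2 * S.card := by
  rw [ES, card_union_of_disjoint, card_image_of_injective _ Subtype.val_injective,
    card_image_of_injective _ fun a b h => Subtype.ext (Prod.swap_injective h), two_mul S.card]
  rw [disjoint_left]
  intro z h1 h2
  obtain ⟨a, -, rfl⟩ := mem_image.1 h1
  obtain ⟨b, -, h⟩ := mem_image.1 h2
  have h3 := a.2.1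
  have h4 := b.2.1
  rw [← h] at h3
  simp only [Prod.fst_swap, Prod.snd_swap] at h3
  omega

theorem card_offDiag' {α : Type} (s : Finset α) : s.offDiag.card = s.card * (s.card - 1) := by
  rw [offDiag_card, Nat.mul_sub_one]

/-- the indices at a position `< n` -/
theorem card_ps_lt {n : ℕ} (h : n ≤ m) : (univ.filter fun x : II m => ps x < n).card = n := by
  have h1 : (univ.filter fun x : II m => ps x < n).image ps = range n := by
    ext i
    simp only [mem_image, mem_filter, mem_univ, true_and, mem_range]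
    exact ⟨fun ⟨x, h1, h2⟩ => h2 ▸ h1, fun hi => ⟨inl ⟨i, by omega⟩, hi, rfl⟩⟩
  rw [← card_image_of_injective _ fun _ _ => ps_inj, h1, card_range]

/-- the roots `ε_i + ε_j`, `i < j < n` -/
theorem card_lt {n : ℕ} (h : n ≤ m) : 2 * (univ.filter fun b : PD m => ps b.1.2 < n).card = n * (n - 1) := by
  rw [← card_ES]
  have h1 : ES (univ.filter fun b : PD m => ps b.1.2 < n) = (univ.filter fun x : II m => ps x < n).offDiag := by
    ext z
    simp only [mem_ES, mem_offDiag, mem_filter, mem_univ, true_and]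
    constructor
    · rintro ⟨b, hb, h1⟩
      have h2 := b.2.1
      refine ⟨?_, ?_, h1.ne'⟩ <;> rcases h1 with h1 | h1 <;> rw [h1] at hb h2 <;> simp only at hb h2 <;> omega
    · rintro ⟨h1, h2, h3⟩
      obtain ⟨b, hb⟩ := exists_isD h3 (by omega)
      refine ⟨b, ?_, hb⟩
      rcases hb with hb | hb <;> rw [hb] <;> assumption
  rw [h1, card_offDiag', card_ps_lt h]

theorem mem_On {b : PD m} : b ∈ On m ↔ ps b.1.2 + 1 < m := by simp only [On, _root_.Finset.mem_filter, _root_.Finset.mem_univ, _root_.true_and]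
theorem mem_Me {a : II m} {b : PD m} : b ∈ Me a ↔ ps b.1.2 + 1 < m ∨ b.1.2 = a := by simp only [Me, _root_.Finset.mem_filter, _root_.Finset.mem_univ, _root_.true_and]
variable [hm : Fact (2 ≤ m)]

theorem ps_inl_lst : ps (inl (lst m) : II m) = m - 1 := rfl
theorem ps_inr_lst : ps (inr (lst m) : II m) = m := by
  have := hm.out
  rw [ps_inr, lst_val]
  omega
theorem card_Me : 2 * (Me (inl (lst m) : II m)).card = m * (m - 1) := by
  have := hm.out
  rw [← card_lt (m := m) le_rfl, Me]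
  congr 2
  exact filter_congr fun b _ => by rw [ps_eq, ps_inl_lst]; omega

section ab

variable {p : ℕ} (hp : p ≠ 1) {S : Finset (PD m)} (hA : (eD m).rc.Ab p S)
include hp hA

end ab

end Cfsg.Agent.TwoF.DC.TBD.Mn
end

-- part: TwoF/DC/TBD/Sub
section
/-!
# TwoF, defining characteristic, type D: the Siegel radical of `Sp_(2m-2)(q) ≤ Ω⁻_(2m)(q)`, `q` even (helper50)
-/

set_option autoImplicit false
set_option linter.unusedSectionVars false

namespace Cfsg.Agent.TwoF.DC.TBD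

open Finset Matrix Sum Cfsg.Agent.TwoF.DC.TC

namespace Sb

section gen

variable {p : ℕ} {ι Φ k G : Type} [Fintype ι] [DecidableEq ι] [Fintype Φ] [DecidableEq Φ] [Field k] [Group G]
  {D : RDat p ι Φ k G}

theorem ht_le (hF : D.Fa) {b b' : Φ} {s t : k} (h : D.z b s = D.z b' t) (hs : s ≠ 0) : D.ht b' ≤ D.ht b := by
  by_contra h1
  have h2 := (RDat.lead_z (D := D) (b := b) rfl s).unique hF
    (RDat.lead_zero (h ▸ D.z_mem_Uge (by omega) t))
  have h3 := congrFun h2 b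
  rw [Pi.single_eq_same] at h3
  exact hs h3

/-- ordered products -/
def pr {A : Type} (g : A → k → G) (l : List A) (u : A → k) : G := (l.map fun a => g a (u a)).prod

theorem pr_add {A : Type} {g : A → k → G} (h1 : ∀ a s t, g a (s + t) = g a s * g a t)
    (h2 : ∀ a a' s t, Commute (g a s) (g a' t)) (u v : A → k) : ∀ l, pr g l (u + v) = pr g l u * pr g l v
  | [] => (mul_one _).symm
  | a :: l => by
    have h3 : Commute (g a (v a)) (pr g l u) := Commute.list_prod_right _ _ fun x hx => by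
      obtain ⟨a', -, rfl⟩ := List.mem_map.1 hx
      exact h2 _ _ _ _
    have h4 := pr_add h1 h2 u v l
    simp only [pr, List.map_cons, List.prod_cons] at h3 h4 ⊢
    rw [h4, Pi.add_apply, h1, mul_assoc, mul_assoc, ← mul_assoc (g a (v a)), h3.eq, mul_assoc]

theorem pr_mem {A : Type} {g : A → k → G} {K : Subgroup G} {u : A → k} (h : ∀ a, g a (u a) ∈ K) (l : List A) :
    pr g l u ∈ K := list_prod_mem fun x hx => by
  obtain ⟨a, -, rfl⟩ := List.mem_map.1 hx
  exact h a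

/-- the products are different -/
theorem pr_inj (hF : D.Fa) {A : Type} [Fintype A] [DecidableEq A] {r : A → Φ} {g : A → k → G} {w : A → k → Φ → k}
    (h0 : ∀ a, g a 0 = 1) (hl : ∀ a s, D.Lead (g a s) (D.ht (r a)) (w a s)) (h1 : ∀ a s, w a s (r a) = s)
    (h2 : ∀ a a' s, a ≠ a' → w a s (r a') = 0) {u : A → k} (hu : pr g univ.toList u = 1) : u = 0 := by
  classical
  by_contra hne
  obtain ⟨a, ha, hm⟩ := exists_min_image (univ.filter fun a => u a ≠ 0) (fun a => D.ht (r a)) (by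
    obtain ⟨a, ha⟩ := Function.ne_iff.1 hne
    exact ⟨a, mem_filter.2 ⟨mem_univ _, ha⟩⟩)
  have h3 := RDat.lead_list (D := D) (e := D.ht (r a)) (l := univ.toList) (f := fun b => g b (u b))
    (w := fun b => if D.ht (r b) = D.ht (r a) then w b (u b) else 0) fun b _ => by
      split_ifs with h
      · exact h ▸ hl b (u b)
      · refine RDat.lead_zero ?_
        by_cases hb : u b = 0
        · rw [hb, h0]
          exact one_mem _
        · have h4 := hm b (mem_filter.2 ⟨mem_univ _, hb⟩)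
          exact D.Uge_anti (by omega) (hl b (u b)).mem
  have h4 := congrFun (h3.unique hF (RDat.lead_zero (hu.symm ▸ one_mem _ : pr g univ.toList u ∈ _))) (r a)
  rw [sum_map_toList, Finset.sum_apply, sum_eq_single a (fun b _ hb => by split_ifs; exacts [h2 _ _ _ hb, rfl]) (by simp only [_root_.Finset.mem_univ, _root_.not_true_eq_false, ↓ _root_.reduceIte, _root_.IsEmpty.forall_iff]),
    if_pos rfl, h1] at h4
  exact (mem_filter.1 ha).2 h4

end gen

variable {m : ℕ} [hm : Fact (2 ≤ m)] {p : ℕ} {k G : Type} [Field k] [Group G] {D : RDat p (Fin m) (PD m) k G}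

theorem comm_f (hR : D.R = (eD m).rc) (f : Fin m → ℤ) {M : ℤ} (h : ∀ a : PD m, rd a ⬝ᵥ f ≤ M) {b b' : PD m}
    (hb : 0 ≤ rd b ⬝ᵥ f) (hb' : 0 ≤ rd b' ⬝ᵥ f) (hM : M < rd b ⬝ᵥ f + rd b' ⬝ᵥ f) (s t : k) :
    Commute (D.z b s) (D.z b' t) :=
  commute_of_cf D (fun a x y hx hy e => by
    rw [hR] at e
    have h3 := h a
    rw [show rd a = (x : ℤ) • rd b + (y : ℤ) • rd b' from (eD m).cf_add_iff.1 e, add_dotProduct, smul_dotProduct,
      smul_dotProduct, smul_eq_mul, smul_eq_mul] at h3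
    have h4 := le_mul_of_one_le_left hb (show (1 : ℤ) ≤ x by exact_mod_cast hx)
    have h5 := le_mul_of_one_le_left hb' (show (1 : ℤ) ≤ y by exact_mod_cast hy)
    omega) s t

/-- the functional `(1, …, 1, 0)` -/
def f1 (m : ℕ) : Fin m → ℤ := fun i => if i.1 + 1 < m then 1 else 0

theorem xv_f1 (a : II m) : xv (f1 m) a = if ps a + 1 < m then 1 else if m < ps a then -1 else 0 := by
  rcases a with i | i <;> have := i.2 <;> simp only [xv, f1, ps] <;> (first | (lia; done) | (split_ifs <;> omega))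

theorem comm_On (hR : D.R = (eD m).rc) {b b' : PD m} (hb : ps b.1.2 + 1 < m) (hb' : ps b'.1.2 ≤ m) (s t : k) :
    Commute (D.z b s) (D.z b' t) := by
  have h1 := b.lt
  have h2 := b'.lt
  refine comm_f hR (f1 m) (M := 2) (fun a => ?_) ?_ ?_ ?_ s t <;> simp only [rd_dot, xv_f1] <;> split_ifs <;> omega

theorem comm_gP (hR : D.R = (eD m).rc) (b : PD m) (s t : k) : Commute (D.z b s) (D.z (gP m b) t) := by
  have h1 := b.lt
  have h2 := b.2
  refine comm_f hR (wv b.1.1) (M := 1) (fun a => ?_) ?_ ?_ ?_ s t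
  · have h3 := a.2
    simp only [rd_dot, xv_wv']
    (first | (lia; done) | (split_ifs <;> omega))
  all_goals
    simp only [rd_dot, xv_wv', gP_val, ps_gI]
    (first | (lia; done) | (split_ifs <;> omega))

/-- the index set -/
abbrev AA (m : ℕ) [Fact (2 ≤ m)] : Type := {b : PD m // b ∈ Me (inl (lst m) : II m)}

theorem AA.lt (b : AA m) : ps b.1.1.2 < m := by
  have h := Mn.mem_Me.1 b.2
  have := hm.out
  rw [ps_eq, Mn.ps_inl_lst] at h
  omega

variable (D) in
/-- the generators -/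
def gg (b : AA m) (s : k) : G := if ps b.1.1.2 + 1 < m then D.z b s else D.z b s * D.z (gP m b) s

theorem gg_on {b : AA m} (h : ps b.1.1.2 + 1 < m) (s : k) : gg D b s = D.z b s := if_pos h

theorem gg_off {b : AA m} (h : ¬ ps b.1.1.2 + 1 < m) (s : k) : gg D b s = D.z b s * D.z (gP m b) s := if_neg h

theorem gg_yy {b : AA m} (h : ¬ ps b.1.1.2 + 1 < m) : ∃ i hi, ∀ s, gg D b s = yy D i hi s := by
  have h1 := b.lt
  have h2 := b.1.lt
  have h3 : (⟨ps b.1.1.1, by omega⟩ : Fin m) < lst m := by rw [Fin.lt_def, lst_val]; simp only; omega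
  refine ⟨_, h3, fun s => ?_⟩
  have h4 : dp _ (lst m) h3 = b.1 := PD.ext' rfl (by show (lst m).1 = _; rw [lst_val]; omega)
  have h5 : dm _ (lst m) h3 = gP m b.1 := PD.ext' (by
    rw [gP_val, ps_gI, if_neg (by omega), if_neg (by omega)]; rfl) (by
    rw [gP_val, ps_gI, if_pos (by omega)]; exact Mn.ps_inr_lst)
  rw [gg_off h, yy, h4, h5]

theorem ps_gP_le (b : AA m) : ps (gP m b.1).1.2 ≤ m := by
  have h1 := b.lt
  rw [gP_val, ps_gI]
  split_ifs <;> omega

theorem gP_on {b : PD m} (h : ps b.1.2 + 1 < m) : gP m b = b := by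
  have h1 := b.lt
  refine PD.ext' ?_ ?_ <;> rw [gP_val, ps_gI, if_neg (by omega), if_neg (by omega)]

theorem gP_ne {b : AA m} (h : ¬ ps b.1.1.2 + 1 < m) (b' : AA m) : b'.1 ≠ gP m b.1 := fun e => by
  have h1 := b.lt
  have h2 := b'.lt
  rw [e, gP_val, ps_gI, if_pos (by omega)] at h2
  omega

theorem gg_zero (b : AA m) : gg D b 0 = 1 := by
  rw [gg, D.z_zero, D.z_zero, mul_one, ite_self]

theorem gg_add (hR : D.R = (eD m).rc) (b : AA m) (s t : k) : gg D b (s + t) = gg D b s * gg D b t := by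
  by_cases h : ps b.1.1.2 + 1 < m
  · rw [gg_on h, gg_on h, gg_on h, D.z_add]
  · rw [gg_off h, gg_off h, gg_off h, D.z_add, D.z_add, (comm_gP hR b.1 t s).mul_mul_mul_comm]

theorem comm_z_gg (hR : D.R = (eD m).rc) {b : PD m} (h : ps b.1.2 + 1 < m) (b' : AA m) (s t : k) :
    Commute (D.z b s) (gg D b' t) := by
  rw [gg]
  split_ifs
  · exact comm_On hR h b'.lt.le s t
  · exact (comm_On hR h b'.lt.le s t).mul_right (comm_On hR h (ps_gP_le b') s t)

theorem gg_comm (hR : D.R = (eD m).rc) (hy : ∀ i j h h' s t, Commute (yy D i h s) (yy D j h' t)) (b b' : AA m)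
    (s t : k) : Commute (gg D b s) (gg D b' t) := by
  by_cases h : ps b.1.1.2 + 1 < m
  · rw [gg_on h]
    exact comm_z_gg hR h b' s t
  by_cases h' : ps b'.1.1.2 + 1 < m
  · rw [gg_on h']
    exact (comm_z_gg hR h' b t s).symm
  obtain ⟨i, hi, h1⟩ := gg_yy (D := D) h
  obtain ⟨j, hj, h2⟩ := gg_yy (D := D) h'
  rw [h1, h2]
  exact hy _ _ _ _ _ _

theorem gg_inj (hF : D.Fa) (hh : ∀ b, D.ht (gP m b) = D.ht b) {u : AA m → k} (hu : pr (gg D) univ.toList u = 1) :
    u = 0 := by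
  refine pr_inj hF (r := Subtype.val) (w := fun b s => if ps b.1.1.2 + 1 < m then Pi.single b.1 s else
    Pi.single b.1 s + Pi.single (gP m b.1) s) gg_zero (fun b s => ?_) (fun b s => ?_) (fun b b' s h => ?_) hu
  · rw [gg]
    split_ifs
    · exact RDat.lead_z rfl s
    · exact (RDat.lead_z rfl s).mul (RDat.lead_z (hh _) s)
  · split_ifs with h
    · exact Pi.single_eq_same _ _
    · rw [Pi.add_apply, Pi.single_eq_same, Pi.single_eq_of_ne (gP_ne h b), add_zero]
  · have h1 : b'.1 ≠ b.1 := fun e => h (Subtype.ext e).symm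
    split_ifs with h2
    · exact Pi.single_eq_of_ne h1 _
    · rw [Pi.add_apply, Pi.single_eq_of_ne h1, Pi.single_eq_of_ne (gP_ne h2 b'), add_zero]

end Sb

open Sb in
/-- **the subgroup for the twisted groups in characteristic two** -/
theorem boxSub : BoxSub := by
  intro m _ _ k G _ _ _ _ D hR hF P hg hy
  have hh : ∀ b, D.ht (gP m b) = D.ht b := fun b => by
    obtain ⟨ε, h⟩ := P.gr_z P.σ b
    have h1 := (hg b 1).symm.trans (h 1)
    rw [← P.ht_gr P.σ b]
    exact le_antisymm (ht_le hF h1.symm (mul_ne_zero ε.ne_zero one_ne_zero)) (ht_le hF h1 one_ne_zero)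
  have hz : ∀ b t, t ^ 2 ^ P.f = t → P.Θ (D.z b t) = D.z (gP m b) t := fun b t ht => by
    show P.gr P.σ (P.FrP P.f _) = _
    rw [P.FrP_z, ht, hg]
  let K : AddSubgroup k :=
    { carrier := {a | a ^ 2 ^ P.f = a}
      add_mem' := fun {a b} (ha : a ^ 2 ^ P.f = a) (hb : b ^ 2 ^ P.f = b) =>
        show (a + b) ^ 2 ^ P.f = a + b by rw [add_pow_char_pow, ha, hb]
      zero_mem' := zero_pow (by positivity)
      neg_mem' := fun {a} ha => by rwa [CharTwo.neg_eq] }
  have hT : ∀ (b : AA m) (t : K), gg D b t ∈ P.TT := fun b t => Subgroup.subset_closure (by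
    by_cases h : ps b.1.1.2 + 1 < m
    · rw [gg_on h]
      exact ⟨Or.inl (D.z_mem_U _ _), by rw [hz _ _ t.2, gP_on h]⟩
    · rw [gg_off h]
      exact ⟨Or.inl (mul_mem (D.z_mem_U _ _) (D.z_mem_U _ _)), by
        rw [map_mul, hz _ _ t.2, hz _ _ t.2, gP_gP, (comm_gP hR _ _ _).eq]⟩)
  let φ : Multiplicative (AA m → K) →* P.TT := MonoidHom.mk'
    (fun u => ⟨pr (gg D) univ.toList fun b => u.toAdd b, pr_mem (fun b => hT b _) _⟩) fun u v =>
      Subtype.ext (pr_add (gg_add hR) (gg_comm hR hy) (fun b => u.toAdd b) (fun b => v.toAdd b) _)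
  have hφ : Function.Injective φ := (injective_iff_map_eq_one φ).2 fun u hu =>
    funext fun b => Subtype.ext (congrFun (gg_inj hF hh (congrArg Subtype.val hu)) b)
  refine ⟨hy, φ.range, ⟨inferInstance, ?_⟩, ?_, ?_⟩
  · rintro _ ⟨u, rfl⟩
    rw [← map_pow, show u ^ 2 = 1 from ?_, map_one]
    rw [pow_two]
    exact funext fun b => Subtype.ext (CharTwo.add_self_eq_zero _)
  · rw [← Nat.card_congr (MonoidHom.ofInjective hφ).toEquiv, Nat.card_congr Multiplicative.toAdd, Nat.card_fun,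
      show Nat.card K = 2 ^ P.f from card_frob_fix P.f_pos, Nat.card_eq_fintype_card, Fintype.card_coe, ← Mn.card_Me,
      pow_mul']
  · rintro _ ⟨_, ⟨u, rfl⟩, rfl⟩
    refine pr_mem (fun b => Subgroup.subset_closure ?_) _
    by_cases h : ps b.1.1.2 + 1 < m
    · exact Or.inl ⟨b.1, Mn.mem_On.2 h, _, gg_on h _⟩
    · obtain ⟨i, hi, h1⟩ := gg_yy (D := D) h
      exact Or.inr ⟨i, hi, _, h1 _⟩

end Cfsg.Agent.TwoF.DC.TBD
end

-- part: TwoF/DC/TBD/Main
section
/-!
# TwoF, defining characteristic: the orthogonal groups (helper7)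

`oodd`, `oplus`, `ominus` : the fields of `Types`, from `BoxFin` and `BoxStd`.
-/

set_option autoImplicit false
set_option linter.unusedSectionVars false
set_option linter.unusedVariables false

namespace Cfsg.Agent.TwoF.DC.TBD

open Cfsg.Agent.TwoF.DC.TC Cfsg.Agent.TwoF.DC.TBD.Cl

theorem combD {p : ℕ} [Fact p.Prime] {m : ℕ} [Fact (2 ≤ m)] (hm : 4 ≤ m) {k : Type} [Field k] [IsAlgClosed k] [CharP k p]
    (f : ℕ) (hf : 0 < f) (σ : Subgroup.zpowers (gN m)) : (tD m k p f hf σ).Comb fun _ => True := by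
  refine boxD (boxBig boxMin) boxMin (boxCT (boxBig boxMin) boxMin) p m hm k _ _ rfl _ tD_gr ?_
  rintro rfl h
  exact boxSub m hm k _ _ rfl (TE.fa_of_faith (faithD (by omega) 2 k) (fst m)) _ (tD_z h) yy_comm

theorem vecD {p m : ℕ} [Fact (2 ≤ m)] {k : Type} [Field k] :
    Vec (dD m k p) (fun b => b.1.1) (fun b => Sum.inr b.1.2) (cD m).th := by
  rw [show (fun b : PD m => b.1.1) = fun b => Sum.inl ((cD m).ia b) from
    funext fun b => (inl_ix (Nat.lt_of_succ_lt b.lt)).symm]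
  exact (cD m).vec p _

variable (hF : BoxFin) (h : BoxStd)
include hF h

theorem oodd : TBox fun p S _ => IsPOmegaOddChar p S := by
  rintro p _ S _ _ _ ⟨F, _, _, _, m, hm, hodd, ⟨e⟩⟩
  obtain ⟨f, hp, hq⟩ := FiniteField.card F p
  have hp2 : p ≠ 2 := by
    rintro rfl
    rw [hq, Nat.odd_pow_iff f.pos.ne'] at hodd
    exact absurd hodd (by decide)
  let k := AlgebraicClosure F
  have h2 : (2 : k) ≠ 0 := fun e =>
    hp2 ((Nat.prime_dvd_prime_iff_eq hp Nat.prime_two).1 ((CharP.cast_eq_zero_iff k p 2).1 (by exact_mod_cast e)))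
  let D := (cB m).rdat k p fun _ => h2
  let P := tw0 D f f.pos ((cB m).fr (frobenius k p)) ((cB m).fr_z p _ _) ((cB m).fr_y p _ _)
  have hc : P.Comb fun _ => True := (boxB p hp2 m hm k _ D rfl).comb
    ⟨fun _ => 1, fun _ => hp.one_lt, fun e => one_ne_zero (congrFun e ⟨0, by omega⟩), trivial⟩
  have hv : Vec D (fun b => b.1.1) ibB (cB m).th := by
    rw [show (fun b : PR m => b.1.1) = fun b => Sum.inl ((cB m).ia b) from funext fun b => (inl_ix b.lt).symm]
    exact (cB m).vec p _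
  exact Row.of_equiv (hF h p _ _ k _ D P _ (((boxNum p m k _ F).1 hp2 hm D rfl P rfl hq).num
    ((boxPi p m k _ F (algebraMap F k) _).1 hp2 hm D rfl (TE.fa_of_faith hc.faith ⟨0, by omega⟩) hv P rfl hq)) hc) e

theorem oplus : TBox fun p S _ => IsPOmegaPlusChar p S := by
  rintro p _ S _ _ _ ⟨F, i1, i2, i3, m, hm, ⟨e⟩⟩
  rcases hm.eq_or_lt with rfl | hm'
  · exact D4.oplus4 hF h p S ⟨F, i1, i2, i3, ⟨e⟩⟩
  obtain ⟨f, hp, hq⟩ := FiniteField.card F p
  have : Fact (2 ≤ m) := ⟨by omega⟩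
  let k := AlgebraicClosure F
  let P := tD m k p f f.pos 1
  have hc : P.Comb fun _ => True := combD hm f f.pos 1
  exact Row.of_equiv (hF h p _ _ k _ _ P _ ((((boxNum p m k _ F).2 _ rfl P hq tD_cent).1 hm' rfl).num
    (((boxPi p m k _ F (algebraMap F k) _).2 hm _ rfl (TE.fa_of_faith hc.faith (fst m)) vecD P hq).1 rfl)) hc) e

theorem ominus : TBox fun p S _ => IsPOmegaMinusChar p S := by
  rintro p _ S _ _ _ ⟨F, _, _, _, m, a, b, hm, hab, ⟨e⟩⟩
  obtain ⟨f, hp, hq⟩ := FiniteField.card F p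
  have : Fact (2 ≤ m) := ⟨by omega⟩
  let k := AlgebraicClosure F
  let P := tD m k p f f.pos ⟨gN m, Subgroup.mem_zpowers _⟩
  have hc : P.Comb fun _ => True := combD hm f f.pos _
  exact Row.of_equiv (hF h p _ _ k _ _ P _ ((((boxNum p m k _ F).2 _ rfl P hq tD_cent).2 hm rfl a b hab).num
    (((boxPi p m k _ F (algebraMap F k) _).2 hm _ rfl (TE.fa_of_faith hc.faith (fst m)) vecD P hq).2 rfl a b hab)) hc) e

end Cfsg.Agent.TwoF.DC.TBD
end

private theorem dce_195265c5f008 : _root_.True := by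
  try have : _root_.True := by simp only [_root_.Cfsg.Agent.TwoF.DC.TBD.Bg.vc.eq_1]
  try have : _root_.True := by simp only [_root_.Cfsg.Agent.TwoF.DC.TBD.Mn.ES.eq_1]
  try have : _root_.True := by simp only [_root_.Cfsg.Agent.TwoF.DC.TBD.Bg.vb.eq_1]
  try have : _root_.True := by simp only [_root_.Cfsg.Agent.TwoF.DC.TBD.Sb.gg.eq_1]
  try have : _root_.True := by simp only [_root_.Cfsg.Agent.TwoF.DC.TBD.Bg.x3.congr_simp]
  try have : _root_.True := by simp only [_root_.Cfsg.Agent.TwoF.DC.TBD.Sb.pr.eq_1]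
  try have : _root_.True := by simp only [_root_.Cfsg.Agent.TwoF.DC.TBD.Sb.f1.eq_1]
  try have : _root_.True := by simp only [_root_.Cfsg.Agent.TwoF.DC.TBD.Bg.x3.eq_1]
  exact _root_.True.intro
end
end
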